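import Mathlib
import Cfsg.Agent.Lib.Helper27.SzField2
import Cfsg.Agent.Lib.Helper26.GSzA
import Cfsg.Agent.Lib.helper3.GSzF1
import Cfsg.Agent.Lib.helper3.GSzF2
import Cfsg.Agent.Lib.helper17.GSzF3

/-!
# The field theorem for solvable groups transitive on the nonzero vectors (characteristic two)

Assembled from the pieces of helper26 (arithmetic), helper17 (additive maps of finite fields, core)
and helper3 (Huppert's theorem applied, the scalars).
-/

set_option autoImplicit false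

namespace Cfsg.Agent.Lib.Helper10.GSz

open Cfsg.Agent.Lib.Helper27.SzF

/-- the main field theorem -/
theorem fieldThm {K : Type*} [Group K] (hsol : Group.IsSolvable K) {W : Type*} [AddCommGroup W]
    [Finite W] (h2 : ∀ w : W, w + w = 0) (a : K →* AddMonoid.End W)
    (htr : ∀ w w' : W, w ≠ 0 → w' ≠ 0 → ∃ k : K, a k w = w')
    (hbig : ∃ w w' : W, w ≠ 0 ∧ w' ≠ 0 ∧ w ≠ w') :
    (∃ k : K, ∀ w : W, a k w = w → w = 0) ∧
    ∀ D : AddSubgroup (AddMonoid.End W),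
      (∀ k : K, ∀ T ∈ D, cj a k T ∈ D) →
      (∀ k : K, (∀ w : W, a k w = w → w = 0) → ∀ T ∈ D, cj a k T = T → T = 0) →
      ∃ (m : ℕ) (Di : Fin m → AddSubgroup (AddMonoid.End W)),
        (∀ i, Di i ≤ D) ∧ (∀ i, ∀ k : K, ∀ T ∈ Di i, cj a k T ∈ Di i) ∧
        (∀ T ∈ D, ∃ f : Fin m → AddMonoid.End W, (∀ i, f i ∈ Di i) ∧ T = ∑ i, f i) ∧
        (∀ i, ∀ T ∈ Di i, T ≠ 0 → (∀ w : W, T w = 0 → w = 0) ∧
          ∀ w w' : W, T w = w → T w' = w' → w ≠ 0 → w' ≠ 0 → w = w') := by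
  obtain ⟨w, w', hw, hw', hww⟩ := hbig
  obtain ⟨F, _, _, e, hchar, hsl⟩ := Cfsg.Agent.Lib.helper3.gszF1 hsol h2 a htr ⟨w, hw⟩
  haveI := hchar
  obtain ⟨N, -, hN⟩ := FiniteField.card F 2
  have hNc : Nat.card F = 2 ^ (N : ℕ) := by rw [Nat.card_eq_fintype_card, hN]
  -- at least four elements
  have hN2 : 2 ≤ (N : ℕ) := by
    by_contra hlt
    have hN1 : (N : ℕ) = 1 := by
      have := N.pos
      omega
    rw [hN1, pow_one] at hN
    have h3 : 2 < Fintype.card F := by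
      rw [Fintype.two_lt_card_iff]
      refine ⟨e 0, e w, e w', ?_, ?_, ?_⟩
      · intro h0; exact hw (e.injective h0).symm
      · intro h0; exact hw' (e.injective h0).symm
      · intro h0; exact hww (e.injective h0)
    omega
  obtain ⟨k₀, l, e', c, hk₀, he'n, he'c, hl⟩ := Cfsg.Agent.Lib.helper3.gszF2 e a htr hsl hNc
  exact Cfsg.Agent.Lib.helper17.GSzF3.core e a hNc k₀ l c hk₀ hl hsl
    (Cfsg.Agent.Lib.Helper26.GSzA.A1' hN2 he'n he'c)
    (fun i j k hi hj h => Cfsg.Agent.Lib.Helper26.GSzA.A2 hN2 he'n he'c hi hj h)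
    (fun i hi0 hin h => Cfsg.Agent.Lib.Helper26.GSzA.A3 hN2 he'n he'c hi0 hin h)

end Cfsg.Agent.Lib.Helper10.GSz
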