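import Mathlib
import Cfsg.Agent.Lib.Helper27.SzGrpB3
import Cfsg.Agent.Lib.Helper10.GSz.FieldThm

/-!
# Generalised Suzuki 2-groups: a solvable group acting transitively on the involutions.  Basics.
-/

set_option autoImplicit false

namespace Cfsg.Agent.Lib.Helper10.GSz

open scoped commutatorElement
open Cfsg.Agent.Lib.Helper27.Sz Cfsg.Agent.Lib.Helper27.SzF

variable {K : Type*} {P : Type*} [Group K] [Group P]

/-- the hypotheses: a solvable group acts on a finite `2`-group with at least two involutions,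
transitively on the involutions -/
structure GSuz (ρ : K →* MulAut P) : Prop where
  fin : Finite P
  finK : Finite K
  sol : Group.IsSolvable K
  pgroup : IsPGroup 2 P
  two_inv : ∃ x y : P, x ≠ y ∧ x ≠ 1 ∧ x * x = 1 ∧ y ≠ 1 ∧ y * y = 1
  trans : ∀ x y : P, x ≠ 1 → x * x = 1 → y ≠ 1 → y * y = 1 → ∃ k : K, ρ k x = y

variable {ρ : K →* MulAut P}

/-- involutions are central -/
theorem GSuz.mem_center_of_sq (h : GSuz ρ) {x : P} (hx : x * x = 1) : x ∈ Subgroup.center P := by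
  by_cases hx1 : x = 1
  · rw [hx1]; exact Subgroup.one_mem _
  haveI := h.fin
  haveI : Nontrivial P := ⟨⟨x, 1, hx1⟩⟩
  have hcen : Subgroup.center P ≠ ⊥ := (h.pgroup.bot_lt_center).ne'
  obtain ⟨z, hzc, hz1, hz2⟩ := exists_inv_of_ne_bot h.pgroup hcen
  obtain ⟨k, hk⟩ := h.trans z x hz1 hz2 hx1 hx
  rw [← hk]
  exact apply_mem_center _ hzc

theorem GSuz.mem_Vs_iff (h : GSuz ρ) {x : P} : x ∈ Vs P ↔ x * x = 1 :=
  ⟨fun hx => hx.2, fun hx => ⟨h.mem_center_of_sq hx, hx⟩⟩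

/-- an involution -/
theorem GSuz.exists_inv (h : GSuz ρ) : ∃ x : P, x ≠ 1 ∧ x * x = 1 := by
  obtain ⟨x, -, -, hx1, hx2, -⟩ := h.two_inv
  exact ⟨x, hx1, hx2⟩

/-- a nontrivial subgroup contains an involution -/
theorem GSuz.exists_inv_mem (h : GSuz ρ) {H : Subgroup P} (hne : H ≠ ⊥) :
    ∃ z ∈ H, z ≠ 1 ∧ z * z = 1 := by
  haveI := h.fin
  exact exists_inv_of_ne_bot h.pgroup hne

/-- nontrivial invariant subgroups contain all involutions -/
theorem GSuz.Vs_le (h : GSuz ρ) {H : Subgroup P} (hH : Inv ρ H) (hne : H ≠ ⊥) : Vs P ≤ H := by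
  obtain ⟨z, hzH, hz1, hz2⟩ := h.exists_inv_mem hne
  intro v hv
  by_cases hv1 : v = 1
  · rw [hv1]; exact H.one_mem
  · obtain ⟨k, hk⟩ := h.trans z v hz1 hz2 hv1 hv.2
    rw [← hk]
    exact hH k z hzH

/-- the hypotheses pass to nontrivial invariant subgroups -/
theorem GSuz.sub (h : GSuz ρ) {H : Subgroup P} (hH : Inv ρ H) (hne : H ≠ ⊥) :
    GSuz (resAct ρ H hH) := by
  haveI := h.fin
  have hV := h.Vs_le hH hne
  refine ⟨inferInstance, h.finK, h.sol, h.pgroup.to_subgroup _, ?_, ?_⟩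
  · obtain ⟨x, y, hxy, hx1, hx, hy1, hy⟩ := h.two_inv
    refine ⟨⟨x, hV (h.mem_Vs_iff.mpr hx)⟩, ⟨y, hV (h.mem_Vs_iff.mpr hy)⟩, ?_, ?_, ?_, ?_, ?_⟩
    · intro h0; exact hxy (congrArg Subtype.val h0)
    · intro h0; exact hx1 (congrArg Subtype.val h0)
    · exact Subtype.ext hx
    · intro h0; exact hy1 (congrArg Subtype.val h0)
    · exact Subtype.ext hy
  · intro x y hx1 hx hy1 hy
    have hx1' : (x : P) ≠ 1 := fun h0 => hx1 (Subtype.ext h0)
    have hy1' : (y : P) ≠ 1 := fun h0 => hy1 (Subtype.ext h0)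
    have hx' : (x : P) * x = 1 := congrArg Subtype.val hx
    have hy' : (y : P) * y = 1 := congrArg Subtype.val hy
    obtain ⟨k, hk⟩ := h.trans x y hx1' hx' hy1' hy'
    exact ⟨k, Subtype.ext hk⟩

/-- the hypotheses pass to a quotient whose involutions form one orbit -/
theorem GSuz.quot (h : GSuz ρ) {N : Subgroup P} [N.Normal] (hN : Inv ρ N)
    (htwo : ∃ x y : P, x⁻¹ * y ∉ N ∧ x ∉ N ∧ x * x ∈ N ∧ y ∉ N ∧ y * y ∈ N)
    (htr : ∀ x y : P, x ∉ N → x * x ∈ N → y ∉ N → y * y ∈ N → ∃ k : K, (ρ k x)⁻¹ * y ∈ N) :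
    GSuz (quotAct ρ N hN) := by
  haveI := h.fin
  refine ⟨inferInstance, h.finK, h.sol, h.pgroup.to_quotient N, ?_, ?_⟩
  · obtain ⟨x, y, hxy, hx1, hx, hy1, hy⟩ := htwo
    refine ⟨(x : P ⧸ N), (y : P ⧸ N), ?_, ?_, ?_, ?_, ?_⟩
    · intro h0; exact hxy (QuotientGroup.eq.mp h0)
    · intro h0; exact hx1 ((QuotientGroup.eq_one_iff x).mp h0)
    · rw [← QuotientGroup.mk_mul]; exact (QuotientGroup.eq_one_iff _).mpr hx
    · intro h0; exact hy1 ((QuotientGroup.eq_one_iff y).mp h0)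
    · rw [← QuotientGroup.mk_mul]; exact (QuotientGroup.eq_one_iff _).mpr hy
  · intro x y hx1 hx hy1 hy
    obtain ⟨x, rfl⟩ := QuotientGroup.mk_surjective x
    obtain ⟨y, rfl⟩ := QuotientGroup.mk_surjective y
    have hx1' : x ∉ N := fun h0 => hx1 ((QuotientGroup.eq_one_iff x).mpr h0)
    have hy1' : y ∉ N := fun h0 => hy1 ((QuotientGroup.eq_one_iff y).mpr h0)
    have hx' : x * x ∈ N := by
      rw [← QuotientGroup.mk_mul] at hx; exact (QuotientGroup.eq_one_iff _).mp hx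
    have hy' : y * y ∈ N := by
      rw [← QuotientGroup.mk_mul] at hy; exact (QuotientGroup.eq_one_iff _).mp hy
    obtain ⟨k, hk⟩ := htr x y hx1' hx' hy1' hy'
    refine ⟨k, ?_⟩
    show quotAct ρ N hN k (x : P ⧸ N) = (y : P ⧸ N)
    rw [quotAct_mk]
    exact QuotientGroup.eq.mpr hk

/-- two commuting elements with the same square differ by an involution -/
theorem GSuz.mul_inv_mem_Vs (h : GSuz ρ) {y n : P} (hc : y * n = n * y) (hsq : y * y = n * n) :
    y * n⁻¹ ∈ Vs P := by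
  rw [h.mem_Vs_iff]
  have hc' : n⁻¹ * y = y * n⁻¹ := by
    have h1 : n⁻¹ * (y * n) * n⁻¹ = n⁻¹ * (n * y) * n⁻¹ := by rw [hc]
    have h2 : n⁻¹ * (y * n) * n⁻¹ = n⁻¹ * y := by group
    have h3 : n⁻¹ * (n * y) * n⁻¹ = y * n⁻¹ := by group
    rw [← h2, h1, h3]
  calc y * n⁻¹ * (y * n⁻¹) = y * (n⁻¹ * y) * n⁻¹ := by group
    _ = y * (y * n⁻¹) * n⁻¹ := by rw [hc']
    _ = (y * y) * (n * n)⁻¹ := by group
    _ = 1 := by rw [hsq, mul_inv_cancel]

/-- an invariant set of involutions containing a nonidentity element contains all involutions -/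
theorem GSuz.Vs_subset (h : GSuz ρ) {S : Set P} (hS : ∀ k : K, ∀ x ∈ S, ρ k x ∈ S)
    (h1 : (1 : P) ∈ S) {v₀ : P} (hv₀ : v₀ ∈ S) (hv₀V : v₀ ∈ Vs P) (hv₀1 : v₀ ≠ 1) :
    ∀ v ∈ Vs P, v ∈ S := by
  intro v hv
  by_cases hv1 : v = 1
  · rw [hv1]; exact h1
  · obtain ⟨k, hk⟩ := h.trans v₀ v hv₀1 hv₀V.2 hv1 hv.2
    rw [← hk]
    exact hS k v₀ hv₀

/-- an element which is not an involution has a power whose square is a nonidentity involution -/
theorem GSuz.exists_pow (h : GSuz ρ) {x : P} (hx : x ∉ Vs P) :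
    ∃ t : ℕ, x ^ t ∉ Vs P ∧ x ^ t * x ^ t ∈ Vs P := by
  haveI := h.fin
  have hex : ∃ j : ℕ, x ^ (2 ^ j) = 1 := by
    obtain ⟨j, hj⟩ := h.pgroup x
    exact ⟨j, hj⟩
  classical
  have hmin : ∀ {m : ℕ}, m < Nat.find hex → ¬ x ^ (2 ^ m) = 1 := fun hm => Nat.find_min hex hm
  have hspec := Nat.find_spec hex
  set j := Nat.find hex with hj
  have hj2 : 2 ≤ j := by
    by_contra hlt
    have : j = 0 ∨ j = 1 := by omega
    rcases this with h0 | h0
    · rw [h0, pow_zero, pow_one] at hspec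
      exact hx (hspec ▸ (Vs P).one_mem)
    · rw [h0, pow_one, pow_two] at hspec
      exact hx (h.mem_Vs_iff.mpr hspec)
  obtain ⟨i, hi⟩ : ∃ i, j = i + 2 := ⟨j - 2, by omega⟩
  refine ⟨2 ^ i, ?_, ?_⟩
  · intro hmem
    have h2 := h.mem_Vs_iff.mp hmem
    have h3 : x ^ (2 ^ (i + 1)) = 1 := by
      rw [pow_succ, pow_mul, pow_two]; exact h2
    exact hmin (by omega : i + 1 < j) h3
  · rw [h.mem_Vs_iff]
    have h3 : x ^ 2 ^ i * x ^ 2 ^ i * (x ^ 2 ^ i * x ^ 2 ^ i) = x ^ (2 ^ (i + 2)) := by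
      rw [← pow_add, ← pow_add]
      congr 1
      rw [pow_succ, pow_succ]; ring
    rw [h3, ← hi]
    exact hspec

/-- the involutions of an invariant subgroup -/
theorem GSuz.mem_Vs_sub_iff (h : GSuz ρ) {H : Subgroup P} (hH : Inv ρ H) (hne : H ≠ ⊥) (x : H) :
    x ∈ Vs H ↔ (x : P) ∈ Vs P := by
  rw [(h.sub hH hne).mem_Vs_iff, h.mem_Vs_iff]
  constructor
  · intro hx; exact congrArg Subtype.val hx
  · intro hx; exact Subtype.ext hx

theorem GSuz.ne_bot_of_Vs_lt (h : GSuz ρ) {H : Subgroup P} (hV : Vs P < H) : H ≠ ⊥ := by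
  rintro rfl
  obtain ⟨x, hx1, hx⟩ := h.exists_inv
  have : x ∈ (⊥ : Subgroup P) := hV.le (h.mem_Vs_iff.mpr hx)
  exact hx1 (Subgroup.mem_bot.mp this)

/-! ### fixed-point-free elements -/

/-- an element without nonidentity fixed involutions has no nonidentity fixed points at all -/
theorem GSuz.fpf_of_fpf_Vs (h : GSuz ρ) {k : K} (hk : ∀ v ∈ Vs P, ρ k v = v → v = 1) {x : P}
    (hx : ρ k x = x) : x = 1 := by
  by_contra hx1
  haveI := h.fin
  let C : Subgroup P :=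
    { carrier := {y | ρ k y = y}
      one_mem' := map_one _
      mul_mem' := by
        intro a b ha hb
        show ρ k (a * b) = a * b
        rw [map_mul, ha, hb]
      inv_mem' := by
        intro a ha
        show ρ k a⁻¹ = a⁻¹
        rw [map_inv, ha] }
  have hC : C ≠ ⊥ := by
    intro h0
    have : x ∈ C := hx
    rw [h0, Subgroup.mem_bot] at this
    exact hx1 this
  obtain ⟨z, hzC, hz1, hz2⟩ := h.exists_inv_mem hC
  exact hz1 (hk z (h.mem_Vs_iff.mpr hz2) hzC)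

/-- the key consequence of a fixed-point-free action -/
theorem mem_of_inv_mul_apply_mem [Finite P] {k : K} (hk : ∀ x : P, ρ k x = x → x = 1)
    {H : Subgroup P} (hH : Inv ρ H) {x : P} (hx : x⁻¹ * ρ k x ∈ H) : x ∈ H := by
  have hinjP : ∀ a b : P, a⁻¹ * ρ k a = b⁻¹ * ρ k b → a = b := by
    intro a b hab
    have h1 : ρ k (b * a⁻¹) = b * a⁻¹ := by
      rw [map_mul, map_inv]
      have : ρ k a = a * (b⁻¹ * ρ k b) := by rw [← hab]; group
      rw [this]; group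
    have h2 := hk _ h1
    have := mul_inv_eq_one.mp h2
    exact this.symm
  let f : H → H := fun y => ⟨(y : P)⁻¹ * ρ k y, H.mul_mem (H.inv_mem y.2) (hH k y y.2)⟩
  have hf : Function.Injective f := by
    intro a b hab
    exact Subtype.ext (hinjP a b (congrArg Subtype.val hab))
  obtain ⟨y, hy⟩ := (Finite.injective_iff_surjective.mp hf) ⟨_, hx⟩
  have : (y : P) = x := hinjP _ _ (congrArg Subtype.val hy)
  rw [← this]
  exact y.2

end Cfsg.Agent.Lib.Helper10.GSz
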