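import Mathlib
import Cfsg.Agent.Lib.Helper10.GSz.Basic

/-!
# Generalised Suzuki 2-groups: the action on the involutions, written additively
-/

set_option autoImplicit false

namespace Cfsg.Agent.Lib.Helper10.GSz

open scoped commutatorElement
open Cfsg.Agent.Lib.Helper27.Sz Cfsg.Agent.Lib.Helper27.SzF

variable {K : Type*} {P : Type*} [Group K] [Group P] {ρ : K →* MulAut P}

/-- transitive action on the nonzero vectors of an elementary abelian `2`-group -/
structure Tra {W : Type*} [AddCommGroup W] (a : K →* AddMonoid.End W) : Prop where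
  two : ∀ w : W, w + w = 0
  trans : ∀ w w' : W, w ≠ 0 → w' ≠ 0 → ∃ k : K, a k w = w'
  ne : ∃ w : W, w ≠ 0
  finK : Finite K

section Tra

variable {W : Type*} [AddCommGroup W] {a : K →* AddMonoid.End W}

theorem Tra.add_self (h : Tra a) (T : AddMonoid.End W) : T + T = 0 := by
  ext w
  exact h.two (T w)

theorem Tra.neg_eq (h : Tra a) (T : AddMonoid.End W) : -T = T :=
  neg_eq_of_add_eq_zero_left (h.add_self T)

theorem Tra.neg_eq_w (h : Tra a) (w : W) : -w = w :=
  neg_eq_of_add_eq_zero_left (h.two w)

/-- an idempotent commuting with all its conjugates is trivial -/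
theorem Tra.idem_trivial (h : Tra a) {T : AddMonoid.End W} (hT : T * T = T)
    (hcomm : ∀ k : K, T * cj a k T = cj a k T * T) : T = 0 ∨ T = 1 := by
  classical
  haveI := h.finK
  haveI : Fintype K := Fintype.ofFinite K
  -- the conjugates are commuting idempotents
  have hidem : ∀ k : K, cj a k T * cj a k T = cj a k T := by
    intro k
    unfold cj
    calc a k * T * a k⁻¹ * (a k * T * a k⁻¹) = a k * T * (a k⁻¹ * a k) * T * a k⁻¹ := by
          simp only [mul_assoc]
      _ = a k * T * a k⁻¹ := by rw [Reg.a_inv_mul, mul_one, mul_assoc (a k), hT]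
  have hcj_mul : ∀ (k : K) (S S' : AddMonoid.End W), cj a k (S * S') = cj a k S * cj a k S' := by
    intro k S S'
    unfold cj
    calc a k * (S * S') * a k⁻¹ = a k * S * 1 * S' * a k⁻¹ := by simp only [mul_assoc, one_mul]
      _ = a k * S * (a k⁻¹ * a k) * S' * a k⁻¹ := by rw [Reg.a_inv_mul]
      _ = a k * S * a k⁻¹ * (a k * S' * a k⁻¹) := by simp only [mul_assoc]
  have hcc : ∀ j k : K, cj a j T * cj a k T = cj a k T * cj a j T := by
    intro j k
    have h1 : cj a k T = cj a j (cj a (j⁻¹ * k) T) := by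
      rw [← cj_mul, mul_inv_cancel_left]
    have h2 : cj a j T * cj a j (cj a (j⁻¹ * k) T) = cj a j (cj a (j⁻¹ * k) T) * cj a j T := by
      rw [← hcj_mul, ← hcj_mul, hcomm]
    rw [h1]; exact h2
  -- a joint eigen-idempotent
  have key : ∀ s : Finset K, ∃ e : AddMonoid.End W, e * e = e ∧ e ≠ 0 ∧
      (∀ k : K, e * cj a k T = cj a k T * e) ∧
      ∀ k ∈ s, e * cj a k T = e ∨ e * cj a k T = 0 := by
    intro s
    induction s using Finset.induction_on with
    | empty =>
      refine ⟨1, one_mul 1, ?_, fun k => by rw [one_mul, mul_one], fun k hk => ?_⟩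
      · intro h01
        obtain ⟨w, hw⟩ := h.ne
        apply hw
        have := congrArg (fun S : AddMonoid.End W => S w) h01
        exact this
      · exact absurd hk (Finset.notMem_empty k)
    | insert k s hks ih =>
      obtain ⟨e, he, hne, hec, hes⟩ := ih
      by_cases h0 : e * cj a k T = 0
      · refine ⟨e, he, hne, hec, ?_⟩
        intro j hj
        rcases Finset.mem_insert.mp hj with rfl | hj
        · right; exact h0
        · exact hes j hj
      · refine ⟨e * cj a k T, ?_, h0, ?_, ?_⟩
        · calc e * cj a k T * (e * cj a k T) = e * (cj a k T * e) * cj a k T := by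
                simp only [mul_assoc]
            _ = e * (e * cj a k T) * cj a k T := by rw [hec k]
            _ = (e * e) * (cj a k T * cj a k T) := by simp only [mul_assoc]
            _ = e * cj a k T := by rw [he, hidem]
        · intro j
          calc e * cj a k T * cj a j T = e * (cj a k T * cj a j T) := by rw [mul_assoc]
            _ = e * (cj a j T * cj a k T) := by rw [hcc]
            _ = (e * cj a j T) * cj a k T := by rw [mul_assoc]
            _ = cj a j T * e * cj a k T := by rw [hec j]
            _ = cj a j T * (e * cj a k T) := by rw [mul_assoc]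
        · intro j hj
          rcases Finset.mem_insert.mp hj with rfl | hj
          · left
            rw [mul_assoc, hidem]
          · have h1 : e * cj a k T * cj a j T = (e * cj a j T) * cj a k T := by
              rw [mul_assoc, hcc k j, ← mul_assoc]
            rcases hes j hj with h2 | h2
            · left; rw [h1, h2]
            · right; rw [h1, h2, zero_mul]
  obtain ⟨e, he, hne, hec, hes⟩ := key Finset.univ
  -- a joint eigenvector
  obtain ⟨w₁, hw₁⟩ : ∃ w₁ : W, e w₁ ≠ 0 := by
    by_contra hall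
    push Not at hall
    apply hne
    ext w
    exact hall w
  have hew : e (e w₁) = e w₁ := by
    rw [← mul_apply', he]
  have hjoint : ∀ k : K, cj a k T (e w₁) = e w₁ ∨ cj a k T (e w₁) = 0 := by
    intro k
    have h1 : cj a k T (e w₁) = (e * cj a k T) (e w₁) := by
      rw [hec k, mul_apply', hew]
    rcases hes k (Finset.mem_univ k) with h2 | h2
    · left; rw [h1, h2, hew]
    · right; rw [h1, h2]; rfl
  -- every vector is an eigenvector of `T`
  have hall : ∀ x : W, T x = x ∨ T x = 0 := by
    intro x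
    by_cases hx : x = 0
    · right; rw [hx, map_zero]
    obtain ⟨j, rfl⟩ := h.trans _ _ hw₁ hx
    have h1 : T (a j (e w₁)) = a j (cj a j⁻¹ T (e w₁)) := by
      rw [cj_apply, inv_inv, Reg.a_apply_inv]
    rcases hjoint j⁻¹ with h2 | h2
    · left; rw [h1, h2]
    · right; rw [h1, h2, map_zero]
  by_cases hT0 : T = 0
  · left; exact hT0
  right
  obtain ⟨x₁, hx₁⟩ : ∃ x₁ : W, T x₁ ≠ 0 := by
    by_contra hno
    push Not at hno
    apply hT0
    ext w
    exact hno w
  have hx₁' : T x₁ = x₁ := by
    rcases hall x₁ with h1 | h1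
    · exact h1
    · exact absurd h1 hx₁
  ext x
  show T x = x
  rcases hall x with h1 | h1
  · exact h1
  · -- `T (x₁ + x) = x₁` must be `x₁ + x` or `0`
    have h2 : T (x₁ + x) = x₁ := by rw [map_add, hx₁', h1, add_zero]
    rcases hall (x₁ + x) with h3 | h3
    · rw [h2] at h3
      have : x = 0 := by
        have := add_left_cancel (a := x₁) (b := 0) (c := x) (by rw [add_zero]; exact h3)
        exact this.symm
      rw [this, map_zero]
    · rw [h2] at h3
      exact absurd (by rw [h3, map_zero] : T x₁ = 0) hx₁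

end Tra

/-- the action on the involutions is transitive -/
theorem GSuz.tra_aV (h : GSuz ρ) : Tra (aV ρ) := by
  refine ⟨?_, ?_, ?_, h.finK⟩
  · intro w
    apply val_injective
    rw [val_add, val_zero]
    exact (val_mem w).2
  · intro w w' hw hw'
    have hw1 : val w ≠ 1 := fun h0 => hw (val_eq_one_iff.mp h0)
    have hw1' : val w' ≠ 1 := fun h0 => hw' (val_eq_one_iff.mp h0)
    obtain ⟨k, hk⟩ := h.trans (val w) (val w') hw1 (val_mem w).2 hw1' (val_mem w').2
    exact ⟨k, val_injective (by rw [val_aV]; exact hk)⟩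
  · obtain ⟨x, hx1, hx⟩ := h.exists_inv
    refine ⟨mkV x (h.mem_Vs_iff.mpr hx), ?_⟩
    intro h0
    apply hx1
    have := congrArg val h0
    exact this

theorem GSuz.big_V (h : GSuz ρ) :
    ∃ w w' : Additive (Vs P), w ≠ 0 ∧ w' ≠ 0 ∧ w ≠ w' := by
  obtain ⟨x, y, hxy, hx1, hx, hy1, hy⟩ := h.two_inv
  refine ⟨mkV x (h.mem_Vs_iff.mpr hx), mkV y (h.mem_Vs_iff.mpr hy), ?_, ?_, ?_⟩
  · intro h0; exact hx1 (congrArg val h0)
  · intro h0; exact hy1 (congrArg val h0)
  · intro h0; exact hxy (congrArg val h0)

theorem GSuz.finite_V (h : GSuz ρ) : Finite (Additive (Vs P)) := by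
  haveI := h.fin
  exact Finite.of_equiv (Vs P) Additive.ofMul

/-- the field theorem for the action on the involutions -/
theorem GSuz.field (h : GSuz ρ) :
    (∃ k : K, ∀ w : Additive (Vs P), aV ρ k w = w → w = 0) ∧
    ∀ D : AddSubgroup (AddMonoid.End (Additive (Vs P))),
      (∀ k : K, ∀ T ∈ D, cj (aV ρ) k T ∈ D) →
      (∀ k : K, (∀ w : Additive (Vs P), aV ρ k w = w → w = 0) → ∀ T ∈ D, cj (aV ρ) k T = T →
        T = 0) →
      ∃ (m : ℕ) (Di : Fin m → AddSubgroup (AddMonoid.End (Additive (Vs P)))),
        (∀ i, Di i ≤ D) ∧ (∀ i, ∀ k : K, ∀ T ∈ Di i, cj (aV ρ) k T ∈ Di i) ∧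
        (∀ T ∈ D, ∃ f : Fin m → AddMonoid.End (Additive (Vs P)), (∀ i, f i ∈ Di i) ∧
          T = ∑ i, f i) ∧
        (∀ i, ∀ T ∈ Di i, T ≠ 0 → (∀ w : Additive (Vs P), T w = 0 → w = 0) ∧
          ∀ w w' : Additive (Vs P), T w = w → T w' = w' → w ≠ 0 → w' ≠ 0 → w = w') := by
  haveI := h.finite_V
  exact fieldThm h.sol h.tra_aV.two (aV ρ) h.tra_aV.trans h.big_V

/-- an element acting without fixed points on the involutions -/
def FpfV (ρ : K →* MulAut P) (k : K) : Prop := ∀ w : Additive (Vs P), aV ρ k w = w → w = 0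

theorem GSuz.exists_fpfV (h : GSuz ρ) : ∃ k : K, FpfV ρ k := h.field.1

theorem GSuz.fpf_of_fpfV (h : GSuz ρ) {k : K} (hk : FpfV ρ k) {x : P} (hx : ρ k x = x) : x = 1 := by
  apply h.fpf_of_fpf_Vs (k := k) _ hx
  intro v hv hfix
  have := hk (mkV v hv) (val_injective (by rw [val_aV, val_mkV]; exact hfix))
  exact congrArg val this

end Cfsg.Agent.Lib.Helper10.GSz
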