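import Mathlib
import Cfsg.Agent.Lib.Helper10.GSz.ActV

/-!
# Generalised Suzuki 2-groups: the centre consists of involutions
-/

set_option autoImplicit false

namespace Cfsg.Agent.Lib.Helper10.GSz

open scoped commutatorElement
open Cfsg.Agent.Lib.Helper27.Sz Cfsg.Agent.Lib.Helper27.SzF

variable {K : Type*} {P : Type*} [Group K] [Group P] {ρ : K →* MulAut P}

/-- the key lemma: an equivariant homomorphism onto the involutions with central kernel, with
all commutators involutions, forces commutativity -/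
theorem GSuz.abelian_of_hom (h : GSuz ρ) (φ : P →* P) (hφV : ∀ x, φ x ∈ Vs P)
    (hφK : ∀ k x, φ (ρ k x) = ρ k (φ x)) (hker : ∀ x, φ x = 1 → x ∈ Subgroup.center P)
    (hsurj : ∀ v ∈ Vs P, ∃ y : P, φ y = v)
    (hcomm : ∀ x y : P, ⁅x, y⁆ ∈ Vs P) : ∀ x y : P, x * y = y * x := by
  haveI := h.fin
  have htra := h.tra_aV
  have hcen : ∀ x y : P, ⁅x, y⁆ ∈ Subgroup.center P := fun x y => (hcomm x y).1
  -- lifts
  let lift : Vs P → P := fun v => Classical.choose (hsurj v v.2)
  have hlift : ∀ v : Vs P, φ (lift v) = v := fun v => Classical.choose_spec (hsurj v v.2)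
  -- the commutator depends only on the image
  have hdep : ∀ x y y' : P, φ y = φ y' → ⁅x, y⁆ = ⁅x, y'⁆ := by
    intro x y y' hyy
    have hz : y'⁻¹ * y ∈ Subgroup.center P := by
      apply hker
      rw [map_mul, map_inv, hyy, inv_mul_cancel]
    have : y = y' * (y'⁻¹ * y) := by group
    rw [this, comm_mul_central_right hz]
  -- the maps
  let Tm : P → (Vs P →* Vs P) := fun x =>
    { toFun := fun v => ⟨⁅x, lift v⁆, hcomm _ _⟩
      map_one' := by
        apply Subtype.ext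
        show ⁅x, lift 1⁆ = 1
        rw [hdep x (lift 1) 1 (by rw [hlift, map_one]; rfl)]
        simp [commutatorElement_def]
      map_mul' := by
        intro v v'
        apply Subtype.ext
        show ⁅x, lift (v * v')⁆ = ⁅x, lift v⁆ * ⁅x, lift v'⁆
        rw [hdep x (lift (v * v')) (lift v * lift v')
          (by rw [hlift, map_mul, hlift, hlift]; rfl),
          comm_mul_right_of_central (hcen _ _)] }
  let T : P → AddMonoid.End (Additive (Vs P)) := fun x => MonoidHom.toAdditive (Tm x)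
  have hT : ∀ (x y : P) (w : Additive (Vs P)), φ y = val w → val (T x w) = ⁅x, y⁆ := by
    intro x y w hy
    show ⁅x, lift (Additive.toMul w)⁆ = ⁅x, y⁆
    apply hdep
    rw [hlift, hy]; rfl
  have hT0 : ∀ x : P, T x = 0 ↔ x ∈ Subgroup.center P := by
    intro x
    constructor
    · intro h0
      rw [Subgroup.mem_center_iff]
      intro y
      have h1 := hT x y (mkV (φ y) (hφV y)) rfl
      rw [h0] at h1
      have h2 : ⁅x, y⁆ = 1 := h1.symm
      exact (commutatorElement_eq_one_iff_commute.mp h2).eq.symm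
    · intro hx
      apply End_ext
      intro w
      obtain ⟨y, hy⟩ := hsurj (val w) (val_mem w)
      rw [hT x y w hy, comm_central_left hx]
      rfl
  have hTmul : ∀ x x' : P, T (x * x') = T x + T x' := by
    intro x x'
    apply End_ext
    intro w
    obtain ⟨y, hy⟩ := hsurj (val w) (val_mem w)
    show val (T (x * x') w) = val (T x w) * val (T x' w)
    rw [hT _ y w hy, hT _ y w hy, hT _ y w hy, comm_mul_left_of_central (hcen _ _)]
  have hTone : T 1 = 0 := (hT0 1).mpr (Subgroup.one_mem _)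
  have hTinv : ∀ x : P, T x⁻¹ = T x := by
    intro x
    have h1 := hTmul x x⁻¹
    rw [mul_inv_cancel, hTone] at h1
    have h2 := eq_neg_of_add_eq_zero_right h1.symm
    rw [h2, htra.neg_eq]
  have hTcj : ∀ (k : K) (x : P), T (ρ k x) = cj (aV ρ) k (T x) := by
    intro k x
    apply End_ext
    intro w
    rw [cj_apply, val_aV]
    obtain ⟨y, hy⟩ := hsurj (val (aV ρ k⁻¹ w)) (val_mem _)
    rw [hT x y _ hy]
    have hy' : φ (ρ k y) = val w := by
      rw [hφK, hy, val_aV, Suz.apply_inv]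
    rw [hT (ρ k x) (ρ k y) w hy', map_commutatorElement]
  let 𝒟 : AddSubgroup (AddMonoid.End (Additive (Vs P))) :=
    { carrier := {S | ∃ x : P, T x = S}
      zero_mem' := ⟨1, hTone⟩
      add_mem' := by
        rintro S S' ⟨x, rfl⟩ ⟨y, rfl⟩
        exact ⟨x * y, hTmul x y⟩
      neg_mem' := by
        rintro S ⟨x, rfl⟩
        exact ⟨x, by rw [htra.neg_eq]⟩ }
  obtain ⟨-, hfield⟩ := h.field
  obtain ⟨m, Di, hle, -, hsum, hinj⟩ := hfield 𝒟
    (by
      rintro k S ⟨x, rfl⟩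
      exact ⟨ρ k x, hTcj k x⟩)
    (by
      rintro k hk S ⟨x, rfl⟩ hfix
      rw [← hTcj] at hfix
      rw [hT0]
      have h1 : T (x⁻¹ * ρ k x) = 0 := by
        rw [hTmul, hTinv, hfix, htra.add_self]
      rw [hT0] at h1
      exact mem_of_inv_mul_apply_mem (fun y hy => h.fpf_of_fpfV hk hy) (inv_center ρ) h1)
  by_contra hna
  push Not at hna
  obtain ⟨x₀, y₀, hxy⟩ := hna
  have hx₀ : T x₀ ≠ 0 := by
    intro h0
    exact hxy (Subgroup.mem_center_iff.mp ((hT0 x₀).mp h0) y₀).symm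
  obtain ⟨f, hf, hfs⟩ := hsum (T x₀) ⟨x₀, rfl⟩
  obtain ⟨i, hi⟩ : ∃ i, f i ≠ 0 := by
    by_contra hall
    push Not at hall
    apply hx₀
    rw [hfs]
    exact Finset.sum_eq_zero (fun i _ => hall i)
  obtain ⟨z, hz⟩ := hle i (hf i)
  rw [← hz] at hi
  have hzi : T z ∈ Di i := by rw [hz]; exact hf i
  have h1 : T z (mkV (φ z) (hφV z)) = 0 := by
    apply val_injective
    rw [hT z z _ rfl, commutatorElement_self]
    rfl
  have h2 := (hinj i (T z) hzi hi).1 _ h1
  have h3 : φ z = 1 := congrArg val h2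
  exact hi ((hT0 z).mpr (hker z h3))

/-- a commutator is a product of squares -/
theorem comm_eq_sq' (x y : P) : ⁅x, y⁆ = (x * x) * ((x⁻¹ * y) * (x⁻¹ * y)) * (y * y)⁻¹ := by
  rw [commutatorElement_def]; group

/-- Case A of the main induction: a nonabelian group cannot have central elements of order four -/
theorem GSuz.caseA (h : GSuz ρ) (hna : ∃ x y : P, x * y ≠ y * x)
    (ihQ : GSuz (quotAct ρ (Vs P) (inv_Vs ρ)) → (∃ a b : P ⧸ Vs P, a * b ≠ b * a) →
      ∀ a : P ⧸ Vs P, a * a ∈ Vs (P ⧸ Vs P))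
    (hz : ∃ z ∈ Subgroup.center P, z ∉ Vs P) : False := by
  haveI := h.fin
  obtain ⟨z, hzc, hzV⟩ := hz
  obtain ⟨t, ht1, ht2⟩ := h.exists_pow hzV
  have hn₀c : z ^ t ∈ Subgroup.center P := Subgroup.pow_mem _ hzc t
  have hn₀1 : z ^ t * z ^ t ≠ 1 := fun h0 => ht1 (h.mem_Vs_iff.mpr h0)
  -- every involution is the square of a central element
  have hsqN : ∀ v ∈ Vs P, ∃ n ∈ Subgroup.center P, n * n = v := by
    apply h.Vs_subset (S := {v | ∃ n ∈ Subgroup.center P, n * n = v})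
    · rintro k v ⟨n, hn, rfl⟩
      exact ⟨ρ k n, apply_mem_center _ hn, by rw [map_mul]⟩
    · exact ⟨1, Subgroup.one_mem _, one_mul 1⟩
    · exact ⟨z ^ t, hn₀c, rfl⟩
    · exact ht2
    · exact hn₀1
  -- elements whose square is an involution are central
  have hT : ∀ y : P, y * y ∈ Vs P → y ∈ Subgroup.center P := by
    intro y hy
    obtain ⟨n, hn, hnn⟩ := hsqN _ hy
    have hc : y * n = n * y := Subgroup.mem_center_iff.mp hn y
    have h1 := h.mul_inv_mem_Vs hc hnn.symm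
    have : y = (y * n⁻¹) * n := by group
    rw [this]
    exact Subgroup.mul_mem _ h1.1 hn
  -- the quotient is again a Suzuki group
  have hQ : GSuz (quotAct ρ (Vs P) (inv_Vs ρ)) := by
    apply h.quot (inv_Vs ρ)
    · obtain ⟨x, y, hxy, hx1, hx, hy1, hy⟩ := h.two_inv
      obtain ⟨n₁, hn₁, hnn₁⟩ := hsqN x (h.mem_Vs_iff.mpr hx)
      obtain ⟨n₂, hn₂, hnn₂⟩ := hsqN y (h.mem_Vs_iff.mpr hy)
      refine ⟨n₁, n₂, ?_, ?_, ?_, ?_, ?_⟩
      · intro hmem
        have h1 := h.mem_Vs_iff.mp hmem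
        have hc : n₂ * n₁⁻¹ = n₁⁻¹ * n₂ :=
          Subgroup.mem_center_iff.mp (Subgroup.inv_mem _ hn₁) n₂
        have h2 : n₁⁻¹ * n₂ * (n₁⁻¹ * n₂) = (n₁ * n₁)⁻¹ * (n₂ * n₂) := by
          calc n₁⁻¹ * n₂ * (n₁⁻¹ * n₂) = n₁⁻¹ * (n₂ * n₁⁻¹) * n₂ := by group
            _ = n₁⁻¹ * (n₁⁻¹ * n₂) * n₂ := by rw [hc]
            _ = (n₁ * n₁)⁻¹ * (n₂ * n₂) := by group
        rw [h2, hnn₁, hnn₂] at h1
        exact hxy (inv_mul_eq_one.mp h1)
      · intro hmem
        have := h.mem_Vs_iff.mp hmem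
        rw [hnn₁] at this
        exact hx1 this
      · rw [hnn₁]; exact h.mem_Vs_iff.mpr hx
      · intro hmem
        have := h.mem_Vs_iff.mp hmem
        rw [hnn₂] at this
        exact hy1 this
      · rw [hnn₂]; exact h.mem_Vs_iff.mpr hy
    · intro x y hx hxx hy hyy
      have hx1 : x * x ≠ 1 := fun h0 => hx (h.mem_Vs_iff.mpr h0)
      have hy1 : y * y ≠ 1 := fun h0 => hy (h.mem_Vs_iff.mpr h0)
      obtain ⟨k, hk⟩ := h.trans (x * x) (y * y) hx1 hxx.2 hy1 hyy.2
      refine ⟨k, ?_⟩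
      have hyc := hT y hyy
      have hc : y * ρ k x = ρ k x * y := (Subgroup.mem_center_iff.mp hyc (ρ k x)).symm
      have h1 := h.mul_inv_mem_Vs hc (by rw [← map_mul, hk])
      have h2 : (ρ k x)⁻¹ * y = y * (ρ k x)⁻¹ := Subgroup.mem_center_iff.mp hyc _
      rw [h2]; exact h1
  -- all commutators are involutions
  have hcomm : ∀ x y : P, ⁅x, y⁆ ∈ Vs P := by
    by_cases hQna : ∃ a b : P ⧸ Vs P, a * b ≠ b * a
    · have h1 := ihQ hQ hQna
      have hsqc : ∀ x : P, x * x ∈ Subgroup.center P := by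
        intro x
        apply hT
        have h2 := hQ.mem_Vs_iff.mp (h1 (x : P ⧸ Vs P))
        have h3 : (((x * x) * (x * x) : P) : P ⧸ Vs P) = 1 := by
          rw [← h2]; rfl
        exact (QuotientGroup.eq_one_iff _).mp h3
      intro x y
      have hc : ⁅x, y⁆ ∈ Subgroup.center P := by
        rw [comm_eq_sq']
        exact Subgroup.mul_mem _ (Subgroup.mul_mem _ (hsqc _) (hsqc _))
          (Subgroup.inv_mem _ (hsqc _))
      rw [h.mem_Vs_iff, ← comm_mul_left_of_central hc]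
      exact comm_central_left (hsqc x)
    · push Not at hQna
      intro x y
      have h1 : ((⁅x, y⁆ : P) : P ⧸ Vs P) = 1 := by
        have : ((⁅x, y⁆ : P) : P ⧸ Vs P) = ⁅(x : P ⧸ Vs P), (y : P ⧸ Vs P)⁆ := rfl
        rw [this, commutatorElement_eq_one_iff_commute]
        exact hQna _ _
      exact (QuotientGroup.eq_one_iff _).mp h1
  have hsqc : ∀ x : P, x * x ∈ Subgroup.center P := sq_central_of_comm hcomm
  -- the exponent
  obtain ⟨α, hα⟩ := h.pgroup.exists_card_eq
  have hexp : ∃ e : ℕ, ∀ x : P, x ^ (2 ^ e) = 1 := ⟨α, fun x => by rw [← hα]; exact pow_card_eq_one'⟩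
  classical
  have hmin : ∀ {e' : ℕ}, e' < Nat.find hexp → ¬ ∀ x : P, x ^ (2 ^ e') = 1 :=
    fun he' => Nat.find_min hexp he'
  have hspec := Nat.find_spec hexp
  obtain ⟨e, he⟩ : ∃ e, e = Nat.find hexp := ⟨_, rfl⟩
  rw [← he] at hmin hspec
  have he3 : 3 ≤ e := by
    obtain ⟨x, y, hxy⟩ := hna
    by_contra hlt
    have hx4 : x ^ 4 = 1 := by
      have h1 := hspec x
      have : e = 0 ∨ e = 1 ∨ e = 2 := by omega
      rcases this with rfl | rfl | rfl
      · rw [pow_zero, pow_one] at h1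
        rw [h1, one_pow]
      · rw [pow_one] at h1
        rw [show 4 = 2 * 2 from rfl, pow_mul, h1, one_pow]
      · exact h1
    have h2 : (x * x) * (x * x) = 1 := by
      rw [← hx4, pow_succ, pow_succ, pow_succ, pow_one]; group
    have h4 : x ∈ Subgroup.center P := hT x (h.mem_Vs_iff.mpr h2)
    exact hxy (Subgroup.mem_center_iff.mp h4 y).symm
  obtain ⟨g, hg⟩ : ∃ g, e = g + 3 := ⟨e - 3, by omega⟩
  set f := g + 2 with hf
  have hef : e = f + 1 := by omega
  have hm4 : 2 ^ f = 4 * 2 ^ g := by rw [hf, pow_add]; ring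
  let φ : P →* P :=
    { toFun := fun x => x ^ (2 ^ f)
      map_one' := one_pow _
      map_mul' := fun x y => by
        show (x * y) ^ 2 ^ f = x ^ 2 ^ f * y ^ 2 ^ f
        rw [hm4]; exact pow_four_mul' hcomm _ x y }
  have hφ : ∀ x : P, φ x = x ^ (2 ^ f) := fun x => rfl
  have hφV : ∀ x : P, φ x ∈ Vs P := by
    intro x
    rw [h.mem_Vs_iff, hφ, ← pow_add, ← two_mul, ← pow_succ', ← hef]
    exact hspec x
  have hφK : ∀ (k : K) (x : P), φ (ρ k x) = ρ k (φ x) := by
    intro k x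
    rw [hφ, hφ, map_pow]
  have hsurj : ∀ v ∈ Vs P, ∃ y : P, y ^ (2 ^ f) = v := by
    have hne : ¬ ∀ x : P, x ^ (2 ^ f) = 1 := hmin (by omega)
    push Not at hne
    obtain ⟨y₀, hy₀⟩ := hne
    apply h.Vs_subset (S := {v | ∃ y : P, y ^ (2 ^ f) = v})
    · rintro k v ⟨y, rfl⟩
      exact ⟨ρ k y, by rw [map_pow]⟩
    · exact ⟨1, one_pow _⟩
    · exact ⟨y₀, rfl⟩
    · exact hφV y₀
    · exact hy₀
  have hker : ∀ i : ℕ, i ≤ f → ∀ x : P, x ^ (2 ^ i) = 1 → x ∈ Subgroup.center P := by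
    intro i
    induction i with
    | zero =>
      intro _ x hx
      rw [pow_zero, pow_one] at hx
      rw [hx]; exact Subgroup.one_mem _
    | succ i ih =>
      intro hi x hx
      have hu : x ^ (2 ^ i) ∈ Vs P := by
        rw [h.mem_Vs_iff, ← pow_add, ← two_mul, ← pow_succ']
        exact hx
      obtain ⟨y, hy⟩ := hsurj _ hu
      obtain ⟨d, hd⟩ : ∃ d, f = i + 1 + d := ⟨f - (i + 1), by omega⟩
      have htc : y ^ (2 ^ (d + 1)) ∈ Subgroup.center P := by
        rw [pow_succ', pow_mul, pow_two]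
        exact Subgroup.pow_mem _ (hsqc y) _
      have htpow : (y ^ (2 ^ (d + 1))) ^ (2 ^ i) = x ^ (2 ^ i) := by
        rw [← hy, ← pow_mul, ← pow_add]
        congr 2
        omega
      have hcm : Commute x (y ^ (2 ^ (d + 1)))⁻¹ := by
        have := Subgroup.mem_center_iff.mp (Subgroup.inv_mem _ htc) x
        exact this
      have hx' : (x * (y ^ (2 ^ (d + 1)))⁻¹) ^ (2 ^ i) = 1 := by
        rw [hcm.mul_pow, inv_pow, htpow, mul_inv_cancel]
      have h1 := ih (by omega) _ hx'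
      have : x = (x * (y ^ (2 ^ (d + 1)))⁻¹) * y ^ (2 ^ (d + 1)) := by group
      rw [this]
      exact Subgroup.mul_mem _ h1 htc
  have hab := h.abelian_of_hom φ hφV hφK (fun x hx => hker f le_rfl x hx) hsurj hcomm
  obtain ⟨x, y, hxy⟩ := hna
  exact hxy (hab x y)

end Cfsg.Agent.Lib.Helper10.GSz
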