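import Mathlib
import Cfsg.Agent.Lib.Helper10.GSz.ActV

/-!
# Generalised Suzuki 2-groups: a minimal invariant subgroup above the involutions; nonabelian case
-/

set_option autoImplicit false

namespace Cfsg.Agent.Lib.Helper10.GSz

open scoped commutatorElement
open Cfsg.Agent.Lib.Helper27.Sz Cfsg.Agent.Lib.Helper27.SzF

variable {K : Type*} {P : Type*} [Group K] [Group P] {ρ : K →* MulAut P}

/-- an element which is an involution and central modulo the involutions -/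
theorem GSuz.exists_second (h : GSuz ρ) (hne : ∃ x : P, x ∉ Vs P) :
    ∃ z : P, z ∉ Vs P ∧ z * z ∈ Vs P ∧ ∀ g : P, ⁅z, g⁆ ∈ Vs P := by
  haveI := h.fin
  haveI : Fact (Nat.Prime 2) := ⟨Nat.prime_two⟩
  obtain ⟨x, hx⟩ := hne
  haveI : Nontrivial (P ⧸ Vs P) := by
    refine ⟨⟨(x : P ⧸ Vs P), 1, ?_⟩⟩
    intro h0
    exact hx ((QuotientGroup.eq_one_iff x).mp h0)
  have hQ : IsPGroup 2 (P ⧸ Vs P) := h.pgroup.to_quotient _
  have hcen : Subgroup.center (P ⧸ Vs P) ≠ ⊥ := (hQ.bot_lt_center).ne'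
  obtain ⟨z, hzc, hz1, hz2⟩ := exists_inv_of_ne_bot hQ hcen
  obtain ⟨z, rfl⟩ := QuotientGroup.mk_surjective z
  refine ⟨z, ?_, ?_, ?_⟩
  · intro hmem
    exact hz1 ((QuotientGroup.eq_one_iff z).mpr hmem)
  · have : ((z * z : P) : P ⧸ Vs P) = 1 := hz2
    exact (QuotientGroup.eq_one_iff _).mp this
  · intro g
    have h1 : ((⁅z, g⁆ : P) : P ⧸ Vs P) = ⁅(z : P ⧸ Vs P), (g : P ⧸ Vs P)⁆ := rfl
    have h2 : ⁅(z : P ⧸ Vs P), (g : P ⧸ Vs P)⁆ = 1 := by
      rw [commutatorElement_eq_one_iff_commute]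
      exact (Subgroup.mem_center_iff.mp hzc (g : P ⧸ Vs P)).symm
    rw [h2] at h1
    exact (QuotientGroup.eq_one_iff _).mp h1

/-- a minimal invariant subgroup above the involutions, inside `Us P` -/
theorem GSuz.exists_minimal (h : GSuz ρ) (hne : ∃ x : P, x ∉ Vs P) :
    ∃ N : Subgroup P, Inv ρ N ∧ Vs P < N ∧ (∀ n ∈ N, n * n ∈ Vs P) ∧
      (∀ n ∈ N, ∀ g : P, ⁅n, g⁆ ∈ Vs P) ∧
      ∀ H : Subgroup P, Inv ρ H → Vs P < H → H ≤ N → H = N := by
  haveI := h.fin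
  obtain ⟨z, hz, hzz, hzg⟩ := h.exists_second hne
  have hU : Vs P < Us P := by
    refine lt_of_le_of_ne Vs_le_Us ?_
    intro h0
    apply hz
    rw [h0]
    exact ⟨hzz, hzg⟩
  let 𝒮 : Set (Subgroup P) := {H | Inv ρ H ∧ Vs P < H ∧ H ≤ Us P}
  have hne' : 𝒮.Nonempty := ⟨Us P, inv_Us ρ, hU, le_rfl⟩
  have hwf : WellFounded ((· < ·) : Subgroup P → Subgroup P → Prop) := wellFounded_lt
  obtain ⟨N, hN𝒮, hNmin⟩ := hwf.has_min 𝒮 hne'
  obtain ⟨hN, hVN, hNU⟩ := hN𝒮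
  refine ⟨N, hN, hVN, fun n hn => (hNU hn).1, fun n hn => (hNU hn).2, ?_⟩
  intro H hH hVH hHN
  by_contra hne2
  exact hNmin H ⟨hH, hVH, hHN.trans hNU⟩ (lt_of_le_of_ne hHN hne2)

/-- Case B, nonabelian subcase: all squares are involutions -/
theorem GSuz.caseB_nonab (h : GSuz ρ) {N : Subgroup P} (hN : Inv ρ N) (hVN : Vs P < N)
    (hsq : ∀ n ∈ N, n * n ∈ Vs P) (hcen : ∀ n ∈ N, ∀ g : P, ⁅n, g⁆ ∈ Vs P)
    (hmin : ∀ H : Subgroup P, Inv ρ H → Vs P < H → H ≤ N → H = N)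
    (hnab : ∃ n ∈ N, ∃ n' ∈ N, n * n' ≠ n' * n) : ∀ x : P, x * x ∈ Vs P := by
  -- every involution is a square in `N`
  have hsurj : ∀ v ∈ Vs P, ∃ n ∈ N, n * n = v := by
    obtain ⟨n₀, hn₀N, hn₀V⟩ := SetLike.exists_of_lt hVN
    apply h.Vs_subset (S := {v | ∃ n ∈ N, n * n = v})
    · rintro k v ⟨n, hn, rfl⟩
      exact ⟨ρ k n, hN k n hn, by rw [map_mul]⟩
    · exact ⟨1, N.one_mem, one_mul 1⟩
    · exact ⟨n₀, hn₀N, rfl⟩
    · exact hsq n₀ hn₀N
    · intro h0; exact hn₀V (h.mem_Vs_iff.mpr h0)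
  -- the centre of `N`
  have hZ : ∀ c ∈ N, c ∈ Subgroup.centralizer (N : Set P) → c ∈ Vs P := by
    have hle : Vs P ≤ N ⊓ Subgroup.centralizer (N : Set P) := by
      intro v hv
      refine Subgroup.mem_inf.mpr ⟨hVN.le hv, ?_⟩
      rw [Subgroup.mem_centralizer_iff]
      intro n _
      exact comm_of_mem_Vs hv n
    rcases lt_or_eq_of_le hle with hlt | heq
    · exfalso
      have h1 := hmin _ (hN.inf hN.centralizer) hlt inf_le_left
      obtain ⟨n, hn, n', hn', hnn⟩ := hnab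
      have h2 : n' ∈ N ⊓ Subgroup.centralizer (N : Set P) := by rw [h1]; exact hn'
      have h3 := Subgroup.mem_centralizer_iff.mp (Subgroup.mem_inf.mp h2).2 n hn
      exact hnn h3
    · intro c hcN hcC
      rw [heq]
      exact Subgroup.mem_inf.mpr ⟨hcN, hcC⟩
  -- the centralizer of `N`
  have hC : ∀ c ∈ Subgroup.centralizer (N : Set P), c ∈ Vs P := by
    intro c hc
    by_contra hcV
    obtain ⟨t, ht1, ht2⟩ := h.exists_pow hcV
    have hc' : c ^ t ∈ Subgroup.centralizer (N : Set P) := Subgroup.pow_mem _ hc t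
    obtain ⟨n, hn, hnn⟩ := hsurj _ ht2
    have hcomm : c ^ t * n = n * c ^ t := (Subgroup.mem_centralizer_iff.mp hc' n hn).symm
    have h1 := h.mul_inv_mem_Vs hcomm hnn.symm
    have h2 : c ^ t ∈ N := by
      have : c ^ t = (c ^ t * n⁻¹) * n := by group
      rw [this]
      exact N.mul_mem (hVN.le h1) hn
    exact ht1 (hZ _ h2 hc')
  intro x
  apply hC
  rw [Subgroup.mem_centralizer_iff]
  intro n hn
  have h1 : ⁅n, x * x⁆ = ⁅n, x⁆ * ⁅n, x⁆ := comm_mul_right_of_central (hcen n hn x).1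
  rw [(hcen n hn x).2] at h1
  exact (commutatorElement_eq_one_iff_commute.mp h1).eq

end Cfsg.Agent.Lib.Helper10.GSz
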