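import Mathlib
import Cfsg.Agent.Lib.Helper10.GSz.CaseB1

/-!
# Generalised Suzuki 2-groups: the commutator maps on the involutions, written additively
-/

set_option autoImplicit false

namespace Cfsg.Agent.Lib.Helper10.GSz

open scoped commutatorElement
open Cfsg.Agent.Lib.Helper27.Sz Cfsg.Agent.Lib.Helper27.SzF

variable {K : Type*} {P : Type*} [Group K] [Group P] {ρ : K →* MulAut P}

/-- the data for the abelian case -/
structure GData (ρ : K →* MulAut P) (N : Subgroup P) : Prop where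
  suz : GSuz ρ
  inv : Inv ρ N
  le : Vs P ≤ N
  comm : ∀ n ∈ N, ∀ n' ∈ N, n * n' = n' * n
  sq : ∀ n ∈ N, n * n ∈ Vs P
  cen : ∀ n ∈ N, ∀ g : P, ⁅n, g⁆ ∈ Vs P
  surj : ∀ v ∈ Vs P, ∃ n ∈ N, n * n = v

variable {N : Subgroup P}

/-- a square root in `N` of an involution -/
noncomputable def GData.root (b : GData ρ N) (v : Vs P) : P := Classical.choose (b.surj v v.2)

theorem GData.root_mem (b : GData ρ N) (v : Vs P) : b.root v ∈ N :=
  (Classical.choose_spec (b.surj v v.2)).1

theorem GData.root_sq (b : GData ρ N) (v : Vs P) : b.root v * b.root v = v :=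
  (Classical.choose_spec (b.surj v v.2)).2

/-- the commutator with an element of `N` depends only on the square -/
theorem GData.comm_eq (b : GData ρ N) {n n' : P} (hn : n ∈ N) (hn' : n' ∈ N)
    (hsq : n * n = n' * n') (x : P) : ⁅n, x⁆ = ⁅n', x⁆ := by
  have h1 := b.suz.mul_inv_mem_Vs (b.comm n hn n' hn') hsq
  have h2 : n = n' * (n * n'⁻¹) := by
    have : n'⁻¹ * n = n * n'⁻¹ := (b.comm n hn n'⁻¹ (N.inv_mem hn')).symm
    calc n = n' * (n'⁻¹ * n) := by group
      _ = n' * (n * n'⁻¹) := by rw [this]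
  rw [h2, comm_mul_central_left h1.1]

/-- the commutator map, multiplicatively -/
noncomputable def GData.Dm (b : GData ρ N) (x : P) : Vs P →* Vs P where
  toFun v := ⟨⁅b.root v, x⁆, b.cen _ (b.root_mem v) x⟩
  map_one' := by
    apply Subtype.ext
    show ⁅b.root 1, x⁆ = 1
    have h1 : b.root 1 * b.root 1 = 1 * 1 := by rw [b.root_sq, one_mul]; rfl
    rw [b.comm_eq (b.root_mem 1) N.one_mem h1]
    simp [commutatorElement_def]
  map_mul' := by
    intro v v'
    apply Subtype.ext
    show ⁅b.root (v * v'), x⁆ = ⁅b.root v, x⁆ * ⁅b.root v', x⁆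
    have h1 : b.root (v * v') * b.root (v * v') =
        (b.root v * b.root v') * (b.root v * b.root v') := by
      have hc := b.comm _ (b.root_mem v) _ (b.root_mem v')
      calc b.root (v * v') * b.root (v * v') = (v : P) * v' := by rw [b.root_sq]; rfl
        _ = (b.root v * b.root v) * (b.root v' * b.root v') := by rw [b.root_sq, b.root_sq]
        _ = b.root v * (b.root v * b.root v') * b.root v' := by group
        _ = b.root v * (b.root v' * b.root v) * b.root v' := by rw [hc]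
        _ = (b.root v * b.root v') * (b.root v * b.root v') := by group
    rw [b.comm_eq (b.root_mem _) (N.mul_mem (b.root_mem v) (b.root_mem v')) h1,
      comm_mul_left_of_central (b.cen _ (b.root_mem v') x).1]

/-- the commutator map, additively -/
noncomputable def GData.D (b : GData ρ N) (x : P) : AddMonoid.End (Additive (Vs P)) :=
  MonoidHom.toAdditive (b.Dm x)

theorem GData.val_D (b : GData ρ N) (x : P) {n : P} (hn : n ∈ N) (w : Additive (Vs P))
    (hw : n * n = val w) : val (b.D x w) = ⁅n, x⁆ := by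
  show ⁅b.root (Additive.toMul w), x⁆ = ⁅n, x⁆
  apply b.comm_eq (b.root_mem _) hn
  rw [b.root_sq, hw]; rfl

theorem GData.val_D_root (b : GData ρ N) (x : P) (w : Additive (Vs P)) :
    val (b.D x w) = ⁅b.root (Additive.toMul w), x⁆ := rfl

theorem GData.D_mul (b : GData ρ N) (x y : P) : b.D (x * y) = b.D x + b.D y := by
  apply End_ext
  intro w
  show val (b.D (x * y) w) = val (b.D x w) * val (b.D y w)
  rw [b.val_D_root, b.val_D_root, b.val_D_root,
    comm_mul_right_of_central (b.cen _ (b.root_mem _) y).1]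

theorem GData.D_one (b : GData ρ N) : b.D 1 = 0 := by
  have := b.D_mul 1 1
  rw [one_mul] at this
  exact left_eq_add.mp this

theorem GData.D_add_self (b : GData ρ N) (x : P) : b.D x + b.D x = 0 :=
  b.suz.tra_aV.add_self _

theorem GData.D_inv (b : GData ρ N) (x : P) : b.D x⁻¹ = b.D x := by
  have h1 := b.D_mul x x⁻¹
  rw [mul_inv_cancel, b.D_one] at h1
  have h2 := eq_neg_of_add_eq_zero_right h1.symm
  rw [h2, b.suz.tra_aV.neg_eq]

theorem GData.D_sq (b : GData ρ N) (x : P) : b.D (x * x) = 0 := by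
  rw [b.D_mul, b.D_add_self]

theorem GData.D_eq_zero_iff (b : GData ρ N) (x : P) :
    b.D x = 0 ↔ x ∈ Subgroup.centralizer (N : Set P) := by
  rw [Subgroup.mem_centralizer_iff]
  constructor
  · intro h0 n hn
    have h1 := b.val_D x hn (mkV (n * n) (b.sq n hn)) rfl
    rw [h0] at h1
    have h2 : ⁅n, x⁆ = 1 := h1.symm
    exact (commutatorElement_eq_one_iff_commute.mp h2).eq
  · intro hc
    apply End_ext
    intro w
    rw [b.val_D_root]
    show ⁅b.root (Additive.toMul w), x⁆ = 1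
    rw [commutatorElement_eq_one_iff_commute]
    exact hc _ (b.root_mem _)

theorem GData.D_eq_iff (b : GData ρ N) (x y : P) :
    b.D x = b.D y ↔ x * y⁻¹ ∈ Subgroup.centralizer (N : Set P) := by
  rw [← b.D_eq_zero_iff, b.D_mul, b.D_inv]
  constructor
  · intro hxy; rw [hxy, b.D_add_self]
  · intro h0
    have h2 := eq_neg_of_add_eq_zero_left h0
    rw [h2, b.suz.tra_aV.neg_eq]

/-- equivariance -/
theorem GData.D_apply (b : GData ρ N) (k : K) (x : P) :
    b.D (ρ k x) = cj (aV ρ) k (b.D x) := by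
  apply End_ext
  intro w
  rw [cj_apply, val_aV]
  have hn : ρ k⁻¹ (b.root (Additive.toMul w)) ∈ N := b.inv k⁻¹ _ (b.root_mem _)
  have hw : ρ k⁻¹ (b.root (Additive.toMul w)) * ρ k⁻¹ (b.root (Additive.toMul w)) =
      val (aV ρ k⁻¹ w) := by
    rw [← map_mul, b.root_sq, val_aV]; rfl
  rw [b.val_D x hn _ hw, b.val_D_root, map_commutatorElement, Suz.apply_inv]

/-- the image of a subgroup -/
noncomputable def GData.Dimg (b : GData ρ N) (H : Subgroup P) :
    AddSubgroup (AddMonoid.End (Additive (Vs P))) where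
  carrier := {T | ∃ x ∈ H, b.D x = T}
  zero_mem' := ⟨1, H.one_mem, b.D_one⟩
  add_mem' := by
    rintro S T ⟨x, hx, rfl⟩ ⟨y, hy, rfl⟩
    exact ⟨x * y, H.mul_mem hx hy, b.D_mul x y⟩
  neg_mem' := by
    rintro T ⟨x, hx, rfl⟩
    exact ⟨x, hx, by rw [b.suz.tra_aV.neg_eq]⟩

theorem GData.mem_Dimg (b : GData ρ N) {H : Subgroup P} {T : AddMonoid.End (Additive (Vs P))} :
    T ∈ b.Dimg H ↔ ∃ x ∈ H, b.D x = T := Iff.rfl

theorem GData.D_mem_Dimg (b : GData ρ N) {H : Subgroup P} {x : P} (hx : x ∈ H) :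
    b.D x ∈ b.Dimg H := ⟨x, hx, rfl⟩

/-- the image of an invariant subgroup is invariant -/
theorem GData.Dimg_inv (b : GData ρ N) {H : Subgroup P} (hH : Inv ρ H) (k : K)
    (T : AddMonoid.End (Additive (Vs P))) (hT : T ∈ b.Dimg H) : cj (aV ρ) k T ∈ b.Dimg H := by
  obtain ⟨x, hx, rfl⟩ := hT
  exact ⟨ρ k x, hH k x hx, b.D_apply k x⟩

/-- fixed-point-free elements have no nonzero fixed points on the image -/
theorem GData.D_fpf (b : GData ρ N) {k : K} (hk : FpfV ρ k) (x : P)
    (hfix : cj (aV ρ) k (b.D x) = b.D x) : b.D x = 0 := by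
  haveI := b.suz.fin
  rw [← b.D_apply, b.D_eq_iff] at hfix
  have hfix' : (ρ k x * x⁻¹)⁻¹ ∈ Subgroup.centralizer (N : Set P) := Subgroup.inv_mem _ hfix
  rw [b.D_eq_zero_iff]
  have hC : Inv ρ (Subgroup.centralizer (N : Set P)) := b.inv.centralizer
  have h1 : x⁻¹⁻¹ * ρ k x⁻¹ ∈ Subgroup.centralizer (N : Set P) := by
    have : x⁻¹⁻¹ * ρ k x⁻¹ = (ρ k x * x⁻¹)⁻¹ := by rw [map_inv]; group
    rw [this]; exact hfix'
  have h2 := mem_of_inv_mul_apply_mem (fun y hy => b.suz.fpf_of_fpfV hk hy) hC h1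
  have := Subgroup.inv_mem _ h2
  rwa [inv_inv] at this

theorem GData.Dimg_fpf (b : GData ρ N) (H : Subgroup P) (k : K)
    (hk : ∀ w : Additive (Vs P), aV ρ k w = w → w = 0)
    (T : AddMonoid.End (Additive (Vs P))) (hT : T ∈ b.Dimg H) (hfix : cj (aV ρ) k T = T) :
    T = 0 := by
  obtain ⟨x, -, rfl⟩ := hT
  exact b.D_fpf hk x hfix

end Cfsg.Agent.Lib.Helper10.GSz
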