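import Mathlib
import Cfsg.Agent.Lib.Helper10.GSz.DMap

/-!
# Generalised Suzuki 2-groups: the abelian case, the centralizer of the minimal subgroup
-/

set_option autoImplicit false

namespace Cfsg.Agent.Lib.Helper10.GSz

open scoped commutatorElement
open Cfsg.Agent.Lib.Helper27.Sz Cfsg.Agent.Lib.Helper27.SzF

variable {K : Type*} {P : Type*} [Group K] [Group P] {ρ : K →* MulAut P} {N : Subgroup P}

/-- the data in the abelian case -/
theorem GSuz.gdata (h : GSuz ρ) (hN : Inv ρ N) (hVN : Vs P < N)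
    (hsq : ∀ n ∈ N, n * n ∈ Vs P) (hcen : ∀ n ∈ N, ∀ g : P, ⁅n, g⁆ ∈ Vs P)
    (hab : ∀ n ∈ N, ∀ n' ∈ N, n * n' = n' * n) : GData ρ N := by
  refine ⟨h, hN, hVN.le, hab, hsq, hcen, ?_⟩
  obtain ⟨n₀, hn₀N, hn₀V⟩ := SetLike.exists_of_lt hVN
  apply h.Vs_subset (S := {v | ∃ n ∈ N, n * n = v})
  · rintro k v ⟨n, hn, rfl⟩
    exact ⟨ρ k n, hN k n hn, by rw [map_mul]⟩
  · exact ⟨1, N.one_mem, one_mul 1⟩
  · exact ⟨n₀, hn₀N, rfl⟩
  · exact hsq n₀ hn₀N
  · intro h0; exact hn₀V (h.mem_Vs_iff.mpr h0)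

theorem GData.le_centralizer (b : GData ρ N) : N ≤ Subgroup.centralizer (N : Set P) := by
  intro n hn
  rw [Subgroup.mem_centralizer_iff]
  intro n' hn'
  exact b.comm n' hn' n hn

/-- elements of the centralizer whose square is an involution lie in `N` -/
theorem GData.mem_of_sq (b : GData ρ N) {c : P} (hc : c ∈ Subgroup.centralizer (N : Set P))
    (hcc : c * c ∈ Vs P) : c ∈ N := by
  obtain ⟨n, hn, hnn⟩ := b.surj _ hcc
  have hcomm : c * n = n * c := (Subgroup.mem_centralizer_iff.mp hc n hn).symm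
  have h1 := b.suz.mul_inv_mem_Vs hcomm hnn.symm
  have : c = (c * n⁻¹) * n := by group
  rw [this]
  exact N.mul_mem (b.le h1) hn

theorem GData.centralizer_ne_top (b : GData ρ N) (hVN : Vs P < N)
    (hZ : ∀ z ∈ Subgroup.center P, z ∈ Vs P) : Subgroup.centralizer (N : Set P) ≠ ⊤ := by
  intro htop
  obtain ⟨n₀, hn₀N, hn₀V⟩ := SetLike.exists_of_lt hVN
  apply hn₀V
  apply hZ
  rw [Subgroup.mem_center_iff]
  intro g
  have hg : g ∈ Subgroup.centralizer (N : Set P) := by rw [htop]; exact Subgroup.mem_top g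
  exact (Subgroup.mem_centralizer_iff.mp hg n₀ hn₀N).symm

/-- the centralizer of `N` is abelian -/
theorem GData.centralizer_comm (b : GData ρ N) (hVN : Vs P < N)
    (hZ : ∀ z ∈ Subgroup.center P, z ∈ Vs P)
    (ihSub : ∀ H : Subgroup P, Inv ρ H → H ≠ ⊤ → (∃ x ∈ H, ∃ y ∈ H, x * y ≠ y * x) →
      ∀ x ∈ H, x * x ∈ Vs P) :
    ∀ c ∈ Subgroup.centralizer (N : Set P), ∀ c' ∈ Subgroup.centralizer (N : Set P),
      c * c' = c' * c := by
  by_contra hnot
  push Not at hnot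
  obtain ⟨c, hc, c', hc', hcc⟩ := hnot
  have h1 := ihSub _ b.inv.centralizer (b.centralizer_ne_top hVN hZ) ⟨c, hc, c', hc', hcc⟩
  apply hcc
  exact b.comm c (b.mem_of_sq hc (h1 c hc)) c' (b.mem_of_sq hc' (h1 c' hc'))

/-- conjugates of elements of `N` lie in `N` -/
theorem GData.conj_mem (b : GData ρ N) (g : P) {n : P} (hn : n ∈ N) : g * n * g⁻¹ ∈ N := by
  have h1 : g * n * g⁻¹ = (⁅n, g⁆)⁻¹ * n := by
    rw [commutatorElement_def]; group
  rw [h1]
  exact N.mul_mem (N.inv_mem (b.le (b.cen n hn g))) hn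

/-- conjugates of elements of the centralizer lie in the centralizer -/
theorem GData.conj_mem_centralizer (b : GData ρ N) (g : P) {c : P}
    (hc : c ∈ Subgroup.centralizer (N : Set P)) :
    g * c * g⁻¹ ∈ Subgroup.centralizer (N : Set P) := by
  rw [Subgroup.mem_centralizer_iff] at hc ⊢
  intro n hn
  have h1 : g⁻¹ * n * g⁻¹⁻¹ ∈ N := b.conj_mem g⁻¹ hn
  have h2 := hc _ h1
  calc n * (g * c * g⁻¹) = g * ((g⁻¹ * n * g⁻¹⁻¹) * c) * g⁻¹ := by group
    _ = g * (c * (g⁻¹ * n * g⁻¹⁻¹)) * g⁻¹ := by rw [h2]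
    _ = g * c * g⁻¹ * n := by group

/-- the centralizer of `N` is `N` -/
theorem GData.centralizer_le (b : GData ρ N) (hVN : Vs P < N)
    (hmin : ∀ H : Subgroup P, Inv ρ H → Vs P < H → H ≤ N → H = N)
    (hZ : ∀ z ∈ Subgroup.center P, z ∈ Vs P)
    (ihSub : ∀ H : Subgroup P, Inv ρ H → H ≠ ⊤ → (∃ x ∈ H, ∃ y ∈ H, x * y ≠ y * x) →
      ∀ x ∈ H, x * x ∈ Vs P) :
    Subgroup.centralizer (N : Set P) ≤ N := by
  have hCab := b.centralizer_comm hVN hZ ihSub
  have hCtop := b.centralizer_ne_top hVN hZ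
  have hreg := b.suz.tra_aV
  intro c₀ hc₀
  by_contra hc₀N
  have hc₀V : c₀ * c₀ ∉ Vs P := fun h0 => hc₀N (b.mem_of_sq hc₀ h0)
  obtain ⟨t, ht1, ht2⟩ := b.suz.exists_pow hc₀V
  have hpow : (c₀ * c₀) ^ t = c₀ ^ t * c₀ ^ t := (Commute.refl c₀).mul_pow t
  rw [hpow] at ht1 ht2
  have hc₁ : c₀ ^ t ∈ Subgroup.centralizer (N : Set P) := Subgroup.pow_mem _ hc₀ t
  have hs : c₀ ^ t * c₀ ^ t ∈ N := b.mem_of_sq (Subgroup.mul_mem _ hc₁ hc₁) ht2
  -- the squares of the centralizer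
  let H : Subgroup P :=
    { carrier := {n | n ∈ N ∧ ∃ c ∈ Subgroup.centralizer (N : Set P), c * c = n}
      one_mem' := ⟨N.one_mem, 1, Subgroup.one_mem _, one_mul 1⟩
      mul_mem' := by
        rintro n n' ⟨hn, c, hc, rfl⟩ ⟨hn', c', hc', rfl⟩
        refine ⟨N.mul_mem hn hn', c * c', Subgroup.mul_mem _ hc hc', ?_⟩
        have := hCab c hc c' hc'
        calc c * c' * (c * c') = c * (c' * c) * c' := by group
          _ = c * (c * c') * c' := by rw [this]
          _ = c * c * (c' * c') := by group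
      inv_mem' := by
        rintro n ⟨hn, c, hc, rfl⟩
        exact ⟨N.inv_mem hn, c⁻¹, Subgroup.inv_mem _ hc, by group⟩ }
  have hHinv : Inv ρ H := by
    rintro k n ⟨hn, c, hc, rfl⟩
    exact ⟨b.inv k _ hn, ρ k c, b.inv.centralizer k c hc, by rw [map_mul]⟩
  have hVH : Vs P < H := by
    refine lt_of_le_of_ne ?_ ?_
    · intro v hv
      obtain ⟨n, hn, hnn⟩ := b.surj v hv
      exact ⟨b.le hv, n, b.le_centralizer hn, hnn⟩
    · intro h0
      apply ht1
      rw [h0]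
      exact ⟨hs, c₀ ^ t, hc₁, rfl⟩
  have hHN : H = N := hmin H hHinv hVH (fun n hn => hn.1)
  have hroot : ∀ n ∈ N, ∃ c ∈ Subgroup.centralizer (N : Set P), c * c = n := by
    intro n hn
    have : n ∈ H := by rw [hHN]; exact hn
    exact this.2
  -- all the maps are idempotent
  have hidem : ∀ x : P, b.D x * b.D x = b.D x := by
    intro x
    apply End_ext
    intro w
    show val (b.D x (b.D x w)) = val (b.D x w)
    have hn := b.root_mem (Additive.toMul w)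
    have hnn := b.root_sq (Additive.toMul w)
    obtain ⟨c, hc, hcc⟩ := hroot _ hn
    have hxx : x * x ∈ Subgroup.centralizer (N : Set P) := by
      rw [← b.D_eq_zero_iff]; exact b.D_sq x
    have he : x * c⁻¹ * x⁻¹ ∈ Subgroup.centralizer (N : Set P) :=
      b.conj_mem_centralizer x (Subgroup.inv_mem _ hc)
    have hd : ⁅c, x⁆ = c * (x * c⁻¹ * x⁻¹) := by rw [commutatorElement_def]; group
    have hdC : ⁅c, x⁆ ∈ Subgroup.centralizer (N : Set P) := by
      rw [hd]; exact Subgroup.mul_mem _ hc he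
    have hdd : ⁅c, x⁆ * ⁅c, x⁆ = ⁅c * c, x⁆ := by
      have h1 := hCab c hc _ he
      rw [hd]
      calc c * (x * c⁻¹ * x⁻¹) * (c * (x * c⁻¹ * x⁻¹))
          = c * ((x * c⁻¹ * x⁻¹) * c) * (x * c⁻¹ * x⁻¹) := by group
        _ = c * (c * (x * c⁻¹ * x⁻¹)) * (x * c⁻¹ * x⁻¹) := by rw [h1]
        _ = ⁅c * c, x⁆ := by rw [commutatorElement_def]; group
    have h1 : val (b.D x w) = ⁅c, x⁆ * ⁅c, x⁆ := by
      rw [b.val_D_root, hdd, hcc]
    have hdN : ⁅c, x⁆ ∈ N := by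
      apply b.mem_of_sq hdC
      rw [← h1]; exact val_mem _
    rw [b.val_D x hdN _ h1.symm, h1]
    -- `x` inverts the commutator
    have h2 : x * ⁅c, x⁆ * x⁻¹ = (⁅c, x⁆)⁻¹ := by
      have h3 : (x * x) * c⁻¹ = c⁻¹ * (x * x) := hCab _ hxx _ (Subgroup.inv_mem _ hc)
      have h4 : x * ⁅c, x⁆ * x⁻¹ = (x * c * x⁻¹) * ((x * x) * c⁻¹ * (x * x)⁻¹) := by
        rw [commutatorElement_def]; group
      have h5 : (⁅c, x⁆)⁻¹ = (x * c * x⁻¹) * c⁻¹ := by
        rw [commutatorElement_def]; group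
      rw [h4, h5, h3]; group
    have h6 : ⁅⁅c, x⁆, x⁆ = ⁅c, x⁆ * (x * ⁅c, x⁆ * x⁻¹)⁻¹ := by
      rw [commutatorElement_def (⁅c, x⁆) x]; group
    rw [h6, h2, inv_inv]
  -- they commute
  have hcommD : ∀ x y : P, b.D x * b.D y = b.D y * b.D x := by
    intro x y
    have h1 := hidem (x * y)
    rw [b.D_mul, mul_add, add_mul, add_mul, hidem x, hidem y] at h1
    have h2 : b.D y * b.D x + b.D x * b.D y = 0 := by
      have h3 : b.D x + b.D y * b.D x + (b.D x * b.D y + b.D y) =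
          (b.D y * b.D x + b.D x * b.D y) + (b.D x + b.D y) := by abel
      rw [h3] at h1
      exact add_eq_right.mp h1
    have h4 := eq_neg_of_add_eq_zero_left h2
    rw [hreg.neg_eq] at h4
    exact h4.symm
  -- hence they are trivial
  have htriv : ∀ x : P, b.D x = 0 ∨ b.D x = 1 := by
    intro x
    apply hreg.idem_trivial (hidem x)
    intro k
    rw [← b.D_apply]
    exact hcommD _ _
  obtain ⟨x, hx⟩ : ∃ x : P, x ∉ Subgroup.centralizer (N : Set P) := by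
    by_contra hall
    push Not at hall
    exact hCtop (Subgroup.eq_top_iff' _ |>.mpr hall)
  have hx0 : b.D x ≠ 0 := fun h0 => hx ((b.D_eq_zero_iff x).mp h0)
  have hx1 : b.D x = 1 := by
    rcases htriv x with h0 | h1
    · exact absurd h0 hx0
    · exact h1
  obtain ⟨k, hk⟩ := b.suz.exists_fpfV
  apply hx0
  apply b.D_fpf hk x
  rw [hx1]
  unfold cj
  rw [mul_one, Reg.a_mul_inv]

end Cfsg.Agent.Lib.Helper10.GSz
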