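import Mathlib
import Cfsg.Agent.Lib.Helper10.GSz.CaseB2

/-!
# Generalised Suzuki 2-groups: the abelian case, conclusion
-/

set_option autoImplicit false

namespace Cfsg.Agent.Lib.Helper10.GSz

open scoped commutatorElement
open Cfsg.Agent.Lib.Helper27.Sz Cfsg.Agent.Lib.Helper27.SzF

variable {K : Type*} {P : Type*} [Group K] [Group P] {ρ : K →* MulAut P} {N : Subgroup P}

theorem GData.D_eq_zero_iff' (b : GData ρ N) (hC : Subgroup.centralizer (N : Set P) ≤ N) (x : P) :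
    b.D x = 0 ↔ x ∈ N := by
  rw [b.D_eq_zero_iff]
  exact ⟨fun hx => hC hx, fun hx => b.le_centralizer hx⟩

theorem GData.D_eq_iff' (b : GData ρ N) (hC : Subgroup.centralizer (N : Set P) ≤ N) (x y : P) :
    b.D x = b.D y ↔ x * y⁻¹ ∈ N := by
  rw [b.D_eq_iff]
  exact ⟨fun hx => hC hx, fun hx => b.le_centralizer hx⟩

theorem GData.sq_mem (b : GData ρ N) (hC : Subgroup.centralizer (N : Set P) ≤ N) (x : P) :
    x * x ∈ N := by
  rw [← b.D_eq_zero_iff' hC]; exact b.D_sq x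

/-- the preimage of an additive subgroup -/
noncomputable def GData.pre (b : GData ρ N)
    (D' : AddSubgroup (AddMonoid.End (Additive (Vs P)))) : Subgroup P where
  carrier := {x | b.D x ∈ D'}
  one_mem' := by
    show b.D 1 ∈ D'
    rw [b.D_one]; exact D'.zero_mem
  mul_mem' := by
    intro x y hx hy
    show b.D (x * y) ∈ D'
    rw [b.D_mul]; exact D'.add_mem hx hy
  inv_mem' := by
    intro x hx
    show b.D x⁻¹ ∈ D'
    rw [b.D_inv]; exact hx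

theorem GData.mem_pre (b : GData ρ N)
    {D' : AddSubgroup (AddMonoid.End (Additive (Vs P)))} {x : P} :
    x ∈ b.pre D' ↔ b.D x ∈ D' := Iff.rfl

/-- proper invariant subgroups above `N` have all squares among the involutions -/
theorem GData.hig (b : GData ρ N) (hC : Subgroup.centralizer (N : Set P) ≤ N)
    (ihSub : ∀ H : Subgroup P, Inv ρ H → H ≠ ⊤ → (∃ x ∈ H, ∃ y ∈ H, x * y ≠ y * x) →
      ∀ x ∈ H, x * x ∈ Vs P)
    {H : Subgroup P} (hH : Inv ρ H) (hNH : N ≤ H) (htop : H ≠ ⊤) : ∀ x ∈ H, x * x ∈ Vs P := by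
  rcases lt_or_eq_of_le hNH with hlt | heq
  · apply ihSub H hH htop
    obtain ⟨x, hxH, hxN⟩ := SetLike.exists_of_lt hlt
    have hxC : x ∉ Subgroup.centralizer (N : Set P) := fun h0 => hxN (hC h0)
    rw [Subgroup.mem_centralizer_iff] at hxC
    push Not at hxC
    obtain ⟨n, hn, hnx⟩ := hxC
    exact ⟨n, hNH hn, x, hxH, hnx⟩
  · intro x hx
    rw [← heq] at hx
    exact b.sq x hx

/-- the fixed vector of two commutator maps -/
theorem GData.fix_left (b : GData ρ N) {h g : P} (hc : ⁅h, g⁆ ∈ N) (hg : g * g ∈ Vs P) :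
    b.D g (mkV (⁅h, g⁆ * ⁅h, g⁆) (b.sq _ hc)) = mkV (⁅h, g⁆ * ⁅h, g⁆) (b.sq _ hc) := by
  apply val_injective
  rw [b.val_D g hc _ rfl, val_mkV]
  exact comm_comm_of_sq_central hg.1

theorem GData.fix_right (b : GData ρ N) {h g : P} (hc : ⁅h, g⁆ ∈ N) (hh : h * h ∈ Vs P) :
    b.D h (mkV (⁅h, g⁆ * ⁅h, g⁆) (b.sq _ hc)) = mkV (⁅h, g⁆ * ⁅h, g⁆) (b.sq _ hc) := by
  apply val_injective
  have hc' : ⁅g, h⁆ ∈ N := by
    rw [← commutatorElement_inv]; exact N.inv_mem hc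
  have hsq : ⁅g, h⁆ * ⁅g, h⁆ = ⁅h, g⁆ * ⁅h, g⁆ := by
    have h1 : ⁅g, h⁆ * ⁅g, h⁆ = (⁅h, g⁆ * ⁅h, g⁆)⁻¹ := by
      rw [← commutatorElement_inv h g]; group
    rw [h1, inv_eq_of_mem_Vs (b.sq _ hc)]
  rw [b.val_D h hc' _ (by rw [val_mkV]; exact hsq), val_mkV, ← hsq]
  exact comm_comm_of_sq_central hh.1

/-- Case B, abelian subcase, when the minimal subgroup is self-centralizing -/
theorem GData.conclusion (b : GData ρ N) (hC : Subgroup.centralizer (N : Set P) ≤ N)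
    (ihSub : ∀ H : Subgroup P, Inv ρ H → H ≠ ⊤ → (∃ x ∈ H, ∃ y ∈ H, x * y ≠ y * x) →
      ∀ x ∈ H, x * x ∈ Vs P) : ∀ x : P, x * x ∈ Vs P := by
  classical
  have htra := b.suz.tra_aV
  obtain ⟨-, hfield⟩ := b.suz.field
  obtain ⟨m, Di, hle, hDinv, hsum, hinj⟩ := hfield (b.Dimg ⊤)
    (fun k T hT => b.Dimg_inv (inv_top ρ) k T hT)
    (fun k hk T hT hfix => b.Dimg_fpf ⊤ k hk T hT hfix)
  -- commutators lie in `N`
  have hcN : ∀ h g : P, ⁅h, g⁆ ∈ N := by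
    intro h g
    rw [← b.D_eq_zero_iff' hC, commutatorElement_def, b.D_mul, b.D_mul, b.D_mul, b.D_inv, b.D_inv]
    have : b.D h + b.D g + b.D h + b.D g = (b.D h + b.D h) + (b.D g + b.D g) := by abel
    rw [this, b.D_add_self, b.D_add_self, add_zero]
  -- the subgroups
  have hHinv : ∀ i, Inv ρ (b.pre (Di i)) := by
    intro i k x hx
    rw [b.mem_pre] at hx ⊢
    rw [b.D_apply]
    exact hDinv i k _ hx
  have hNH : ∀ i, N ≤ b.pre (Di i) := by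
    intro i n hn
    rw [b.mem_pre, (b.D_eq_zero_iff' hC n).mpr hn]
    exact (Di i).zero_mem
  by_cases htop : ∃ i, b.pre (Di i) = ⊤
  · -- all nonzero maps are injective
    obtain ⟨i, hi⟩ := htop
    intro x
    by_cases hxN : x ∈ N
    · exact b.sq x hxN
    have hD0 : b.D x ≠ 0 := fun h0 => hxN ((b.D_eq_zero_iff' hC x).mp h0)
    have hDi : b.D x ∈ Di i := by
      rw [← b.mem_pre, hi]; exact Subgroup.mem_top x
    have hxx : x * x ∈ N := b.sq_mem hC x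
    have hV : (x * x) * (x * x) ∈ Vs P := b.sq _ hxx
    have h1 : b.D x (mkV _ hV) = 0 := by
      apply val_injective
      rw [b.val_D x hxx (mkV _ hV) rfl, val_zero, commutatorElement_eq_one_iff_commute]
      exact (Commute.refl x).mul_left (Commute.refl x)
    have h2 := (hinj i _ hDi hD0).1 _ h1
    rw [b.suz.mem_Vs_iff]
    have := congrArg val h2
    exact this
  push Not at htop
  -- squares in the subgroups
  have hsqH : ∀ i, ∀ x ∈ b.pre (Di i), x * x ∈ Vs P :=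
    fun i => b.hig hC ihSub (hHinv i) (hNH i) (htop i)
  obtain ⟨k, hk⟩ := b.suz.exists_fpfV
  -- the key claim
  have key : ∀ i j, i ≠ j → ∀ h ∈ b.pre (Di i), ∀ g ∈ b.pre (Di j), ⁅h, g⁆ ∈ Vs P := by
    intro i j hij h₀ hh₀ g₀ hg₀
    by_contra hcon
    have hw₀ : mkV (⁅h₀, g₀⁆ * ⁅h₀, g₀⁆) (b.sq _ (hcN h₀ g₀)) ≠ 0 := by
      intro h0
      apply hcon
      rw [b.suz.mem_Vs_iff]
      exact congrArg val h0
    set w₀ := mkV (⁅h₀, g₀⁆ * ⁅h₀, g₀⁆) (b.sq _ (hcN h₀ g₀)) with hw₀def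
    have hh₀N : h₀ ∉ N := fun h0 => hcon (b.cen h₀ h0 g₀)
    have hg₀N : g₀ ∉ N := by
      intro h0
      apply hcon
      rw [← commutatorElement_inv]
      exact (Vs P).inv_mem (b.cen g₀ h0 h₀)
    have hDh₀ : b.D h₀ ≠ 0 := fun h0 => hh₀N ((b.D_eq_zero_iff' hC h₀).mp h0)
    have hDg₀ : b.D g₀ ≠ 0 := fun h0 => hg₀N ((b.D_eq_zero_iff' hC g₀).mp h0)
    have hfixh₀ : b.D h₀ w₀ = w₀ := b.fix_right (hcN h₀ g₀) (hsqH i h₀ hh₀)
    have hfixg₀ : b.D g₀ w₀ = w₀ := b.fix_left (hcN h₀ g₀) (hsqH j g₀ hg₀)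
    have hg₁ : ρ k g₀ ∈ b.pre (Di j) := hHinv j k g₀ hg₀
    have hDg₁ : b.D (ρ k g₀) ≠ 0 := by
      rw [b.D_apply]
      intro h0
      exact hDg₀ ((cj_eq_zero_iff k _).mp h0)
    have hDdiff : b.D (ρ k g₀) + b.D g₀ ≠ 0 := by
      intro h0
      apply hDg₀
      have h1 := eq_neg_of_add_eq_zero_left h0
      rw [htra.neg_eq, b.D_apply] at h1
      exact b.D_fpf hk g₀ h1
    set w₁ := mkV (⁅h₀, ρ k g₀⁆ * ⁅h₀, ρ k g₀⁆) (b.sq _ (hcN h₀ (ρ k g₀))) with hw₁def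
    have hfixh₁ : b.D h₀ w₁ = w₁ := b.fix_right (hcN h₀ (ρ k g₀)) (hsqH i h₀ hh₀)
    have hfixg₁ : b.D (ρ k g₀) w₁ = w₁ := b.fix_left (hcN h₀ (ρ k g₀)) (hsqH j _ hg₁)
    by_cases hw₁ : w₁ = 0
    · -- the commutator with `ρ k g₀` is an involution
      have hc₁V : ⁅h₀, ρ k g₀⁆ ∈ Vs P := by
        rw [b.suz.mem_Vs_iff]
        exact congrArg val hw₁
      have hcomm₂ : ⁅h₀, g₀ * ρ k g₀⁆ = ⁅h₀, g₀⁆ * ⁅h₀, ρ k g₀⁆ :=
        comm_mul_right_of_central hc₁V.1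
      have hsq₂' : ⁅h₀, g₀ * ρ k g₀⁆ * ⁅h₀, g₀ * ρ k g₀⁆ = ⁅h₀, g₀⁆ * ⁅h₀, g₀⁆ := by
        rw [hcomm₂]
        have h1 := comm_of_mem_Vs hc₁V ⁅h₀, g₀⁆
        calc ⁅h₀, g₀⁆ * ⁅h₀, ρ k g₀⁆ * (⁅h₀, g₀⁆ * ⁅h₀, ρ k g₀⁆)
            = ⁅h₀, g₀⁆ * (⁅h₀, ρ k g₀⁆ * ⁅h₀, g₀⁆) * ⁅h₀, ρ k g₀⁆ := by group
          _ = ⁅h₀, g₀⁆ * (⁅h₀, g₀⁆ * ⁅h₀, ρ k g₀⁆) * ⁅h₀, ρ k g₀⁆ := by rw [h1]
          _ = ⁅h₀, g₀⁆ * ⁅h₀, g₀⁆ * (⁅h₀, ρ k g₀⁆ * ⁅h₀, ρ k g₀⁆) := by group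
          _ = ⁅h₀, g₀⁆ * ⁅h₀, g₀⁆ := by rw [hc₁V.2, mul_one]
      have hfix₂ := b.fix_left (hcN h₀ (g₀ * ρ k g₀))
        (hsqH j _ ((b.pre (Di j)).mul_mem hg₀ hg₁))
      have hw₂ : mkV (⁅h₀, g₀ * ρ k g₀⁆ * ⁅h₀, g₀ * ρ k g₀⁆) (b.sq _ (hcN h₀ (g₀ * ρ k g₀))) = w₀ :=
        val_injective hsq₂'
      rw [hw₂, b.D_mul] at hfix₂
      have h3 : b.D g₀ w₀ + b.D (ρ k g₀) w₀ = w₀ := hfix₂
      rw [hfixg₀] at h3
      have h4 : b.D (ρ k g₀) w₀ = 0 := add_eq_left.mp h3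
      exact hw₀ ((hinj j _ hg₁ hDg₁).1 _ h4)
    · have h1 : w₀ = w₁ := (hinj i _ hh₀ hDh₀).2 w₀ w₁ hfixh₀ hfixh₁ hw₀ hw₁
      rw [← h1] at hfixg₁
      have h2 : (b.D (ρ k g₀) + b.D g₀) w₀ = 0 := by
        show b.D (ρ k g₀) w₀ + b.D g₀ w₀ = 0
        rw [hfixg₁, hfixg₀]
        exact htra.two w₀
      have h3 : b.D (ρ k g₀) + b.D g₀ ∈ Di j := (Di j).add_mem hg₁ hg₀
      exact hw₀ ((hinj j _ h3 hDdiff).1 _ h2)
  -- induction over the components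
  have hind : ∀ s : Finset (Fin m), ∀ x : P,
      (∃ f : Fin m → AddMonoid.End (Additive (Vs P)), (∀ i, f i ∈ Di i) ∧
        b.D x = ∑ i ∈ s, f i) →
      x * x ∈ Vs P ∧ ∀ j, j ∉ s → ∀ g ∈ b.pre (Di j), ⁅x, g⁆ ∈ Vs P := by
    intro s
    induction s using Finset.induction_on with
    | empty =>
      rintro x ⟨f, -, hx⟩
      rw [Finset.sum_empty] at hx
      have hxN : x ∈ N := (b.D_eq_zero_iff' hC x).mp hx
      exact ⟨b.sq x hxN, fun j _ g _ => b.cen x hxN g⟩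
    | insert i s his ih =>
      rintro x ⟨f, hf, hx⟩
      rw [Finset.sum_insert his] at hx
      obtain ⟨h, -, hh⟩ := hle i (hf i)
      have hhi : h ∈ b.pre (Di i) := by
        rw [b.mem_pre, hh]; exact hf i
      have hy : b.D (x * h⁻¹) = ∑ i ∈ s, f i := by
        rw [b.D_mul, b.D_inv, hx, hh]
        have : f i + ∑ i ∈ s, f i + f i = (f i + f i) + ∑ i ∈ s, f i := by abel
        rw [this, htra.add_self, zero_add]
      obtain ⟨hy2, hyc⟩ := ih (x * h⁻¹) ⟨f, hf, hy⟩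
      have hyh : ⁅x * h⁻¹, h⁆ ∈ Vs P := hyc i his h hhi
      have hhy : ⁅h, x * h⁻¹⁆ ∈ Vs P := by
        rw [← commutatorElement_inv]
        exact (Vs P).inv_mem hyh
      have hxe : x = (x * h⁻¹) * h := by group
      constructor
      · rw [hxe, sq_mul_of_comm_central hhy.1]
        exact (Vs P).mul_mem ((Vs P).mul_mem hhy hy2) (hsqH i h hhi)
      · intro j hj g hg
        have hji : j ≠ i := fun h0 => hj (h0 ▸ Finset.mem_insert_self _ _)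
        have hjs : j ∉ s := fun h0 => hj (Finset.mem_insert_of_mem h0)
        have hhg : ⁅h, g⁆ ∈ Vs P := key i j (Ne.symm hji) h hhi g hg
        rw [hxe, comm_mul_left_of_central hhg.1]
        exact (Vs P).mul_mem (hyc j hjs g hg) hhg
  intro x
  obtain ⟨f, hf, hx⟩ := hsum (b.D x) (b.D_mem_Dimg (Subgroup.mem_top x))
  exact (hind Finset.univ x ⟨f, hf, hx⟩).1

/-- Case B, abelian subcase -/
theorem GSuz.caseB_ab (h : GSuz ρ) (hN : Inv ρ N) (hVN : Vs P < N)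
    (hsq : ∀ n ∈ N, n * n ∈ Vs P) (hcen : ∀ n ∈ N, ∀ g : P, ⁅n, g⁆ ∈ Vs P)
    (hmin : ∀ H : Subgroup P, Inv ρ H → Vs P < H → H ≤ N → H = N)
    (hab : ∀ n ∈ N, ∀ n' ∈ N, n * n' = n' * n)
    (hZ : ∀ z ∈ Subgroup.center P, z ∈ Vs P)
    (ihSub : ∀ H : Subgroup P, Inv ρ H → H ≠ ⊤ → (∃ x ∈ H, ∃ y ∈ H, x * y ≠ y * x) →
      ∀ x ∈ H, x * x ∈ Vs P) : ∀ x : P, x * x ∈ Vs P := by
  have b := h.gdata hN hVN hsq hcen hab
  have hC := b.centralizer_le hVN hmin hZ ihSub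
  exact b.conclusion hC ihSub

end Cfsg.Agent.Lib.Helper10.GSz
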