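import Mathlib
import Cfsg.Agent.Lib.Helper10.GSz.CaseA
import Cfsg.Agent.Lib.Helper10.GSz.CaseB3
import Cfsg.Agent.Lib.Helper1.Frat

/-!
# Higman's theorem for 2-groups with a solvable group of automorphisms transitive on involutions
-/

set_option autoImplicit false

universe u v

namespace Cfsg.Agent.Lib.Helper10.GSz

open scoped commutatorElement
open Cfsg.Agent.Lib.Helper27.Sz Cfsg.Agent.Lib.Helper27.SzF

/-- the main induction -/
theorem sq_mem_aux (K : Type u) [Group K] : ∀ n : ℕ, ∀ (P : Type v) [Group P]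
    (ρ : K →* MulAut P), GSuz ρ → Nat.card P = n → (∃ x y : P, x * y ≠ y * x) →
    ∀ x : P, x * x ∈ Vs P := by
  intro n
  induction n using Nat.strong_induction_on with
  | _ n ih =>
    intro P _ ρ h hcard hna
    haveI := h.fin
    -- the induction hypothesis for subgroups
    have ihSub : ∀ H : Subgroup P, Inv ρ H → H ≠ ⊤ → (∃ x ∈ H, ∃ y ∈ H, x * y ≠ y * x) →
        ∀ x ∈ H, x * x ∈ Vs P := by
      intro H hH htop hnaH x hx
      have hne : H ≠ ⊥ := by
        rintro rfl
        obtain ⟨a, ha, b, hb, hab⟩ := hnaH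
        rw [Subgroup.mem_bot] at ha hb
        rw [ha, hb] at hab
        exact hab rfl
      have hlt : Nat.card H < n := by
        rw [← hcard]
        by_contra hle
        push Not at hle
        exact htop (Subgroup.eq_top_of_le_card _ hle)
      have hnaH' : ∃ a b : H, a * b ≠ b * a := by
        obtain ⟨a, ha, b, hb, hab⟩ := hnaH
        exact ⟨⟨a, ha⟩, ⟨b, hb⟩, fun h0 => hab (congrArg Subtype.val h0)⟩
      have h1 := ih (Nat.card H) hlt H (resAct ρ H hH) (h.sub hH hne) rfl hnaH' ⟨x, hx⟩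
      exact (h.mem_Vs_sub_iff hH hne _).mp h1
    -- the induction hypothesis for the quotient
    have ihQ : GSuz (quotAct ρ (Vs P) (inv_Vs ρ)) → (∃ a b : P ⧸ Vs P, a * b ≠ b * a) →
        ∀ a : P ⧸ Vs P, a * a ∈ Vs (P ⧸ Vs P) := by
      intro hQ hnaQ
      have hlt : Nat.card (P ⧸ Vs P) < n := by
        rw [← hcard, ← Subgroup.index_eq_card, ← (Vs P).card_mul_index]
        have h4 : 2 ≤ Nat.card (Vs P) := by
          have hne : Vs P ≠ ⊥ := by
            intro h0
            obtain ⟨x, hx1, hx⟩ := h.exists_inv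
            have : x ∈ Vs P := h.mem_Vs_iff.mpr hx
            rw [h0, Subgroup.mem_bot] at this
            exact hx1 this
          exact (Subgroup.one_lt_card_iff_ne_bot (Vs P)).mpr hne
        have hpos : 0 < (Vs P).index := Nat.pos_of_ne_zero Subgroup.index_ne_zero_of_finite
        nlinarith
      exact ih _ hlt (P ⧸ Vs P) _ hQ rfl hnaQ
    by_cases hz : ∃ z ∈ Subgroup.center P, z ∉ Vs P
    · exact absurd (h.caseA hna ihQ hz) id
    push Not at hz
    have hne : ∃ x : P, x ∉ Vs P := by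
      obtain ⟨x, y, hxy⟩ := hna
      refine ⟨x, fun hx => hxy ?_⟩
      exact (comm_of_mem_Vs hx y).symm
    obtain ⟨N, hN, hVN, hsq, hcen, hmin⟩ := h.exists_minimal hne
    by_cases hab : ∀ n ∈ N, ∀ n' ∈ N, n * n' = n' * n
    · exact h.caseB_ab hN hVN hsq hcen hmin hab hz ihSub
    · push Not at hab
      exact h.caseB_nonab hN hVN hsq hcen hmin hab

variable {K : Type u} {P : Type v} [Group K] [Group P] {ρ : K →* MulAut P}

/-- **Higman**: all squares are involutions -/
theorem GSuz.sq_mem (h : GSuz ρ) (hna : ∃ x y : P, x * y ≠ y * x) (x : P) : x * x ∈ Vs P :=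
  sq_mem_aux K _ P ρ h rfl hna x

/-- **Higman**: the centre consists of the involutions -/
theorem GSuz.center_le (h : GSuz ρ) (hna : ∃ x y : P, x * y ≠ y * x) :
    ∀ z ∈ Subgroup.center P, z ∈ Vs P := by
  by_contra hz
  push Not at hz
  exact h.caseA hna (fun hQ hnaQ a => hQ.sq_mem hnaQ a) hz

/-- **Higman**: commutators are involutions -/
theorem GSuz.comm_mem (h : GSuz ρ) (hna : ∃ x y : P, x * y ≠ y * x) (x y : P) : ⁅x, y⁆ ∈ Vs P :=
  comm_mem_Vs_of_sq (h.sq_mem hna) x y

/-- the final form -/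
theorem higman_solvable {G : Type*} [Group G] [Finite G] (hG : IsPGroup 2 G)
    (hna : ¬ IsMulCommutative G)
    (htwo : ∃ x y : G, x ≠ y ∧ x ≠ 1 ∧ x ^ 2 = 1 ∧ y ≠ 1 ∧ y ^ 2 = 1)
    (hY : ∃ Y : Subgroup (MulAut G), Group.IsSolvable Y ∧ ∀ x y : G, x ≠ 1 → x ^ 2 = 1 → y ≠ 1 →
      y ^ 2 = 1 → ∃ a ∈ Y, a x = y) :
    commutator G = frattini G ∧ frattini G = Subgroup.center G ∧
      ∀ x : G, x ∈ Subgroup.center G ↔ x ^ 2 = 1 := by
  haveI : Fact (Nat.Prime 2) := ⟨Nat.prime_two⟩
  obtain ⟨Y, hYs, hYt⟩ := hY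
  have hna' : ∃ x y : G, x * y ≠ y * x := by
    by_contra hall
    push Not at hall
    exact hna ⟨⟨hall⟩⟩
  have h : GSuz (Y.subtype : Y →* MulAut G) := by
    refine ⟨inferInstance, inferInstance, hYs, hG, ?_, ?_⟩
    · obtain ⟨x, y, hxy, hx1, hx, hy1, hy⟩ := htwo
      exact ⟨x, y, hxy, hx1, by rw [← pow_two]; exact hx, hy1, by rw [← pow_two]; exact hy⟩
    · intro x y hx1 hx hy1 hy
      obtain ⟨a, ha, hax⟩ := hYt x y hx1 (by rw [pow_two]; exact hx) hy1 (by rw [pow_two]; exact hy)
      exact ⟨⟨a, ha⟩, hax⟩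
  have hsq := h.sq_mem hna'
  have hcenle := h.center_le hna'
  have hcen : Subgroup.center G = Vs G := le_antisymm hcenle Vs_le_center
  -- the commutator subgroup
  have hcV : commutator G ≤ Vs G := by
    rw [commutator_def, Subgroup.commutator_le]
    intro x _ y _
    exact h.comm_mem hna' x y
  have hcinv : Inv (Y.subtype : Y →* MulAut G) (commutator G) := by
    intro k x hx
    have hchar : (commutator G).Characteristic := inferInstance
    have := (Subgroup.characteristic_iff_le_comap.mp hchar) ((Y.subtype k : MulAut G))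
    exact this hx
  have hcne : commutator G ≠ ⊥ := by
    intro h0
    obtain ⟨x, y, hxy⟩ := hna'
    have h1 : ⁅x, y⁆ ∈ commutator G := by
      rw [commutator_def]
      exact Subgroup.commutator_mem_commutator (Subgroup.mem_top x) (Subgroup.mem_top y)
    rw [h0, Subgroup.mem_bot, commutatorElement_eq_one_iff_mul_comm] at h1
    exact hxy h1
  have hVc : Vs G ≤ commutator G := h.Vs_le hcinv hcne
  have hcomm : commutator G = Vs G := le_antisymm hcV hVc
  -- the Frattini subgroup
  have hfr : frattini G = Vs G := by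
    apply le_antisymm
    · apply Cfsg.Agent.Lib.Helper1.frattini_le_of_elementary_quotient (p := 2) (Vs G) hcV
      intro x
      rw [pow_two]
      exact hsq x
    · rw [← hcomm]
      exact Cfsg.Agent.Lib.Helper1.pgroup_commutator_le_frattini hG
  refine ⟨by rw [hcomm, hfr], by rw [hfr, hcen], ?_⟩
  intro x
  rw [hcen, h.mem_Vs_iff, pow_two]

end Cfsg.Agent.Lib.Helper10.GSz
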